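import Groth.Agent.GaExt.Split
import Mathlib.RingTheory.MvPolynomial.Ideal
import Mathlib.RingTheory.MvPolynomial.Homogeneous

/-!
# Truncated symmetric cocycles: homogeneous components
-/

set_option autoImplicit false
set_option linter.unusedSectionVars false

universe u

open MvPolynomial

namespace Groth.Agent.GaAlpha87

variable {R : Type u} [CommRing R]

/-- The exponent of two variables. -/
noncomputable def m2 (a b : ℕ) : Fin 2 →₀ ℕ := Finsupp.equivFunOnFinite.symm ![a, b]

/-- The exponent of three variables. -/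
noncomputable def m3 (a b c : ℕ) : Fin 3 →₀ ℕ := Finsupp.equivFunOnFinite.symm ![a, b, c]

@[simp] theorem m2_zero' (a b : ℕ) : m2 a b 0 = a := rfl
@[simp] theorem m2_one' (a b : ℕ) : m2 a b 1 = b := rfl
@[simp] theorem m3_zero' (a b c : ℕ) : m3 a b c 0 = a := rfl
@[simp] theorem m3_one' (a b c : ℕ) : m3 a b c 1 = b := rfl
@[simp] theorem m3_two' (a b c : ℕ) : m3 a b c 2 = c := rfl

theorem m2_eta (m : Fin 2 →₀ ℕ) : m = m2 (m 0) (m 1) := Finsupp.ext fun i => by fin_cases i <;> rfl
theorem m3_eta (m : Fin 3 →₀ ℕ) : m = m3 (m 0) (m 1) (m 2) := Finsupp.ext fun i => by fin_cases i <;> rfl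

theorem m2_inj {a b a' b' : ℕ} : m2 a b = m2 a' b' ↔ a = a' ∧ b = b' :=
  ⟨fun h => ⟨DFunLike.congr_fun h 0, DFunLike.congr_fun h 1⟩, fun h => by rw [h.1, h.2]⟩

theorem m3_inj {a b c a' b' c' : ℕ} : m3 a b c = m3 a' b' c' ↔ a = a' ∧ b = b' ∧ c = c' :=
  ⟨fun h => ⟨DFunLike.congr_fun h 0, DFunLike.congr_fun h 1, DFunLike.congr_fun h 2⟩,
    fun h => by rw [h.1, h.2.1, h.2.2]⟩

theorem degree_m2 (a b : ℕ) : (m2 a b).degree = a + b := by
  simp [Finsupp.degree_eq_sum, Fin.sum_univ_two]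

theorem degree_m3 (a b c : ℕ) : (m3 a b c).degree = a + b + c := by
  simp [Finsupp.degree_eq_sum, Fin.sum_univ_three]

theorem monomial_m3 (a b c : ℕ) :
    (X 0 : MvPolynomial (Fin 3) R) ^ a * X 1 ^ b * X 2 ^ c = monomial (m3 a b c) 1 := by
  rw [X_pow_eq_monomial, X_pow_eq_monomial, X_pow_eq_monomial, monomial_mul, monomial_mul, _root_.one_mul,
    _root_.one_mul]
  congr 2
  ext i
  fin_cases i <;> simp [m3]

theorem monomial_m2 (a b : ℕ) : (X 0 : MvPolynomial (Fin 2) R) ^ a * X 1 ^ b = monomial (m2 a b) 1 := by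
  rw [X_pow_eq_monomial, X_pow_eq_monomial, monomial_mul, _root_.one_mul]
  congr 2
  ext i
  fin_cases i <;> simp [m2]

theorem aeval_monomial2 {τ : Type} (u v : MvPolynomial τ R) (i j : ℕ) (r : R) :
    aeval ![u, v] (monomial (m2 i j) r) = C r * (u ^ i * v ^ j) := by
  rw [aeval_monomial, MvPolynomial.algebraMap_eq, Finsupp.prod_fintype _ _ (fun k => pow_zero _), Fin.prod_univ_two]
  simp

/-- Induction on polynomials in two variables through their monomials. -/
theorem induction2 {P : MvPolynomial (Fin 2) R → Prop} (h : MvPolynomial (Fin 2) R)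
    (hm : ∀ i j r, P (monomial (m2 i j) r)) (hadd : ∀ f g, P f → P g → P (f + g)) : P h := by
  induction h using MvPolynomial.induction_on' with
  | monomial m r => rw [m2_eta m]; exact hm _ _ _
  | add f g hf hg => exact hadd _ _ hf hg

variable (h : MvPolynomial (Fin 2) R) (a b c : ℕ)

theorem coeff_T1 : (aeval ![(X 0 : MvPolynomial (Fin 3) R), X 1] h).coeff (m3 a b c) =
    if c = 0 then h.coeff (m2 a b) else 0 := by
  classical
  induction h using induction2 with
  | hm i j r =>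
    rw [aeval_monomial2, coeff_C_mul, ← _root_.mul_one ((X 0 : MvPolynomial (Fin 3) R) ^ i * X 1 ^ j),
      ← pow_zero (X 2 : MvPolynomial (Fin 3) R), monomial_m3, coeff_monomial, coeff_monomial]
    simp only [m3_inj, m2_inj]
    split_ifs <;> simp_all
  | hadd f g hf hg => rw [map_add, coeff_add, coeff_add, hf, hg]; split_ifs <;> simp

theorem coeff_T4 : (aeval ![(X 1 : MvPolynomial (Fin 3) R), X 2] h).coeff (m3 a b c) =
    if a = 0 then h.coeff (m2 b c) else 0 := by
  classical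
  induction h using induction2 with
  | hm i j r =>
    rw [aeval_monomial2, coeff_C_mul, ← _root_.one_mul ((X 1 : MvPolynomial (Fin 3) R) ^ i * X 2 ^ j),
      ← pow_zero (X 0 : MvPolynomial (Fin 3) R), ← _root_.mul_assoc, monomial_m3, coeff_monomial, coeff_monomial]
    simp only [m3_inj, m2_inj]
    split_ifs <;> simp_all
  | hadd f g hf hg => rw [map_add, coeff_add, coeff_add, hf, hg]; split_ifs <;> simp

theorem coeff_T2 : (aeval ![(X 0 : MvPolynomial (Fin 3) R) + X 1, X 2] h).coeff (m3 a b c) =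
    ((a + b).choose a : R) * h.coeff (m2 (a + b) c) := by
  classical
  induction h using induction2 with
  | hm i j r =>
    rw [aeval_monomial2, coeff_C_mul, add_pow, Finset.sum_mul, coeff_sum]
    have e : ∀ k, (X 0 : MvPolynomial (Fin 3) R) ^ k * X 1 ^ (i - k) * (i.choose k : MvPolynomial (Fin 3) R) * X 2 ^ j =
        C (i.choose k : R) * monomial (m3 k (i - k) j) 1 := fun k => by
      rw [← monomial_m3, map_natCast]; ring
    simp only [e, coeff_C_mul, coeff_monomial, m3_inj, m2_inj]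
    by_cases hh : i = a + b ∧ j = c
    · obtain ⟨rfl, rfl⟩ := hh
      rw [if_pos ⟨rfl, rfl⟩, Finset.sum_eq_single a (fun k _ hk => by simp [hk])
        (fun hk => absurd (Finset.mem_range.2 (by omega)) hk), if_pos (by omega)]
      ring
    · rw [if_neg hh, Finset.sum_eq_zero (fun k hk => ?_), mul_zero, mul_zero]
      rw [if_neg (fun hk' => hh ⟨by have := Finset.mem_range.1 hk; omega, hk'.2.2⟩), mul_zero]
  | hadd f g hf hg => rw [map_add, coeff_add, coeff_add, hf, hg, _root_.mul_add]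

theorem coeff_T3 : (aeval ![(X 0 : MvPolynomial (Fin 3) R), X 1 + X 2] h).coeff (m3 a b c) =
    ((b + c).choose b : R) * h.coeff (m2 a (b + c)) := by
  classical
  induction h using induction2 with
  | hm i j r =>
    rw [aeval_monomial2, coeff_C_mul, add_pow, Finset.mul_sum, coeff_sum]
    have e : ∀ k, (X 0 : MvPolynomial (Fin 3) R) ^ i * (X 1 ^ k * X 2 ^ (j - k) * (j.choose k : MvPolynomial (Fin 3) R)) =
        C (j.choose k : R) * monomial (m3 i k (j - k)) 1 := fun k => by
      rw [← monomial_m3, map_natCast]; ring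
    simp only [e, coeff_C_mul, coeff_monomial, m3_inj, m2_inj]
    by_cases hh : i = a ∧ j = b + c
    · obtain ⟨rfl, rfl⟩ := hh
      rw [if_pos ⟨rfl, rfl⟩, Finset.sum_eq_single b (fun k _ hk => by simp [hk])
        (fun hk => absurd (Finset.mem_range.2 (by omega)) hk), if_pos (by omega)]
      ring
    · rw [if_neg hh, Finset.sum_eq_zero (fun k hk => ?_), mul_zero, mul_zero]
      rw [if_neg (fun hk' => hh ⟨hk'.1, by have := Finset.mem_range.1 hk; omega⟩), mul_zero]
  | hadd f g hf hg => rw [map_add, coeff_add, coeff_add, hf, hg, _root_.mul_add]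

theorem coeff_swap : (aeval ![(X 1 : MvPolynomial (Fin 2) R), X 0] h).coeff (m2 a b) = h.coeff (m2 b a) := by
  classical
  induction h using induction2 with
  | hm i j r =>
    rw [aeval_monomial2, coeff_C_mul, _root_.mul_comm ((X 1 : MvPolynomial (Fin 2) R) ^ i), monomial_m2,
      coeff_monomial, coeff_monomial]
    simp only [m2_inj]
    split_ifs <;> simp_all
  | hadd f g hf hg => rw [map_add, coeff_add, coeff_add, hf, hg]

/-- The additive cocycle expression. -/
noncomputable def cy : MvPolynomial (Fin 3) R :=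
  aeval ![(X 0 : MvPolynomial (Fin 3) R), X 1] h + aeval ![X 0 + X 1, (X 2 : MvPolynomial (Fin 3) R)] h -
    (aeval ![(X 0 : MvPolynomial (Fin 3) R), X 1 + X 2] h + aeval ![(X 1 : MvPolynomial (Fin 3) R), X 2] h)

theorem coeff_cy : (cy h).coeff (m3 a b c) = (if c = 0 then h.coeff (m2 a b) else 0) +
    ((a + b).choose a : R) * h.coeff (m2 (a + b) c) -
    (((b + c).choose b : R) * h.coeff (m2 a (b + c)) + (if a = 0 then h.coeff (m2 b c) else 0)) := by
  rw [cy, coeff_sub, coeff_add, coeff_add, coeff_T1, coeff_T2, coeff_T3, coeff_T4]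

variable (R) in
/-- The ideal of the truncation. -/
noncomputable def box (σ : Type) (q : ℕ) : Ideal (MvPolynomial σ R) :=
  Ideal.span ((fun s => monomial s (1 : R)) '' Set.range fun i : σ => Finsupp.single i q)

theorem mem_box {σ : Type} {q : ℕ} {x : MvPolynomial σ R} :
    x ∈ box R σ q ↔ ∀ m ∈ x.support, ∃ i, q ≤ m i := by
  rw [box, mem_ideal_span_monomial_image]
  refine forall₂_congr fun m _ => ⟨?_, ?_⟩
  · rintro ⟨_, ⟨i, rfl⟩, hi⟩
    exact ⟨i, Finsupp.single_le_iff.1 hi⟩
  · rintro ⟨i, hi⟩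
    exact ⟨_, ⟨i, rfl⟩, Finsupp.single_le_iff.2 hi⟩

theorem X_pow_mem_box {σ : Type} (q : ℕ) (i : σ) : (X i : MvPolynomial σ R) ^ q ∈ box R σ q := by
  rw [X_pow_eq_monomial]
  exact Ideal.subset_span ⟨_, ⟨i, rfl⟩, rfl⟩

theorem coeff_eq_zero_of_mem {σ : Type} {q d : ℕ} {z : MvPolynomial σ R}
    (hz : z ∈ idealOfVars σ R ^ (d + 1) ⊔ box R σ q) {m : σ →₀ ℕ} (hm : m.degree ≤ d) (hb : ∀ i, m i < q) :
    z.coeff m = 0 := by
  obtain ⟨x, hx, y, hy, rfl⟩ := Submodule.mem_sup.1 hz
  rw [coeff_add, (mem_pow_idealOfVars_iff' _ x).1 hx m (by omega), _root_.zero_add]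
  by_contra hne
  obtain ⟨i, hi⟩ := mem_box.1 hy m (mem_support_iff.2 hne)
  exact absurd hi (not_le.2 (hb i))

/-- The in-box part of degree `d` of a truncated cocycle is an honest cocycle. -/
theorem component {q d : ℕ} (hd : 1 ≤ d) (hdq : d ≤ q)
    (hsupp : ∀ i j, h.coeff (m2 i j) ≠ 0 → i + j = d ∧ i < q ∧ j < q)
    (hcy : ∀ a b c, a + b + c = d → a < q → b < q → c < q → (cy h).coeff (m3 a b c) = 0) : cy h = 0 := by
  ext m
  rw [m3_eta m, coeff_zero]
  generalize m 0 = a, m 1 = b, m 2 = c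
  have z : ∀ i j, (i + j ≠ d ∨ q ≤ i ∨ q ≤ j) → h.coeff (m2 i j) = 0 := fun i j hij => by
    by_contra hne
    obtain ⟨h1, h2, h3⟩ := hsupp i j hne
    omega
  by_cases hdeg : a + b + c = d
  · by_cases hb : a < q ∧ b < q ∧ c < q
    · exact hcy a b c hdeg hb.1 hb.2.1 hb.2.2
    · have hcases : (a = q ∧ b = 0 ∧ c = 0) ∨ (a = 0 ∧ b = q ∧ c = 0) ∨ (a = 0 ∧ b = 0 ∧ c = q) := by omega
      rw [coeff_cy]
      rcases hcases with ⟨ha, hb', hc⟩ | ⟨ha, hb', hc⟩ | ⟨ha, hb', hc⟩ <;> rw [ha, hb', hc]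
      all_goals simp [z q 0 (by omega), z 0 q (by omega), z 0 0 (by omega)]
  · rw [coeff_cy, z (a + b) c (by omega), z a (b + c) (by omega)]
    split_ifs with h1 h2 h2
    · rw [z a b (by omega), z b c (by omega)]; simp
    · rw [z a b (by omega)]; simp
    · rw [z b c (by omega)]; simp
    · simp

variable (p : ℕ) [hp : Fact p.Prime] [CharP R p]

include hp in
theorem isUnit_choose {i s : ℕ} (hi : ¬ p ∣ i / p ^ s) : IsUnit (i.choose (p ^ s) : R) := by
  have h1 : (i.choose (p ^ s) : ZMod p) ≠ 0 := Groth.Agent.WittExt.Lazard.choose_pow_ne_zero hi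
  simpa using (Ne.isUnit h1).map (ZMod.castHom dvd_rfl R)

include hp in
/-- Components of degree beyond the truncation vanish. -/
theorem component_vanish {n d : ℕ} (hdq : p ^ n < d)
    (hsupp : ∀ i j, h.coeff (m2 i j) ≠ 0 → i + j = d ∧ i < p ^ n ∧ j < p ^ n)
    (hsym : ∀ i j, h.coeff (m2 i j) = h.coeff (m2 j i))
    (hcy : ∀ a b c, a + b + c = d → a < p ^ n → b < p ^ n → c < p ^ n → (cy h).coeff (m3 a b c) = 0) : h = 0 := by
  set q := p ^ n
  have z : ∀ i j, (i + j ≠ d ∨ q ≤ i ∨ q ≤ j) → h.coeff (m2 i j) = 0 := fun i j hij => by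
    by_contra hne
    obtain ⟨h1, h2, h3⟩ := hsupp i j hne
    omega
  have step : ∀ i j s, i + j = d → i < q → j < q → p ^ s ≤ i → ¬ p ∣ i / p ^ s →
      h.coeff (m2 (p ^ s) (d - p ^ s)) = 0 → h.coeff (m2 i j) = 0 := by
    intro i j s hij hi hj hs hdiv h0
    by_cases hzero : i = p ^ s
    · rw [hzero, show j = d - p ^ s by omega, h0]
    · have hj0 : j ≠ 0 := by omega
      have hps : p ^ s ≠ 0 := pow_ne_zero _ hp.out.ne_zero
      have h1 := hcy (p ^ s) (i - p ^ s) j (by omega) (by omega) (by omega) hj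
      rw [coeff_cy, if_neg hj0, if_neg hps, show p ^ s + (i - p ^ s) = i by omega,
        show i - p ^ s + j = d - p ^ s by omega, h0, mul_zero, _root_.zero_add, _root_.add_zero, sub_zero] at h1
      exact (isUnit_choose p hdiv).mul_right_eq_zero.1 h1
  have hval : ∀ i, i ≠ 0 → ∃ s, p ^ s ≤ i ∧ ¬ p ∣ i / p ^ s ∧ p ^ s ∣ i := fun i hi => by
    obtain ⟨s, r, hr, rfl⟩ := Groth.Agent.WittExt.Lazard.exists_pow_mul (p := p) hi
    exact ⟨s, Nat.le_mul_of_pos_right _ (Nat.pos_of_ne_zero fun h0 => hr (by simp [h0])),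
      by rwa [Nat.mul_div_cancel_left _ (pow_pos hp.out.pos s)], Dvd.intro r rfl⟩
  have pivot : ∀ s, h.coeff (m2 (p ^ s) (d - p ^ s)) = 0 := by
    intro s
    by_cases hin : d - p ^ s < q ∧ p ^ s < q
    · obtain ⟨t, r, hr, htr⟩ := Groth.Agent.WittExt.Lazard.exists_pow_mul (p := p) (n := d - q) (by omega)
      have hr0 : 0 < r := Nat.pos_of_ne_zero fun h0 => hr (by simp [h0])
      have hts : p ^ t < p ^ s := lt_of_le_of_lt (Nat.le_mul_of_pos_right _ hr0) (by omega)
      have hts' : t < s := (Nat.pow_lt_pow_iff_right hp.out.one_lt).1 hts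
      have hsn : s < n := (Nat.pow_lt_pow_iff_right hp.out.one_lt).1 hin.2
      have hps : 0 < p ^ t := pow_pos hp.out.pos t
      set j := d - p ^ s with hj
      have hjeq : j = p ^ t * (r + p ^ (n - t) - p ^ (s - t)) := by
        rw [Nat.mul_sub, Nat.mul_add, ← pow_add, ← pow_add, show t + (n - t) = n by omega,
          show t + (s - t) = s by omega]
        show j = p ^ t * r + q - p ^ s
        omega
      have hdiv : ¬ p ∣ j / p ^ t := by
        rw [hjeq, Nat.mul_div_cancel_left _ hps]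
        intro hd'
        have h1 : p ∣ p ^ (n - t) := dvd_pow_self _ (by omega)
        have h2 : p ∣ p ^ (s - t) := dvd_pow_self _ (by omega)
        have hle : p ^ (s - t) ≤ r + p ^ (n - t) :=
          le_trans (Nat.pow_le_pow_right hp.out.pos (by omega)) (Nat.le_add_left _ _)
        have h3 := (Nat.dvd_add hd' h2)
        rw [Nat.sub_add_cancel hle] at h3
        exact hr ((Nat.dvd_add_iff_left h1).2 h3)
      have hjpos : p ^ t ≤ j := by
        rw [hjeq]
        refine Nat.le_mul_of_pos_right _ (Nat.pos_of_ne_zero fun h0 => hdiv ?_)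
        rw [hjeq, h0]; simp
      rw [hsym]
      have : p ^ t ≤ d - q := htr ▸ Nat.le_mul_of_pos_right _ hr0
      exact step j (p ^ s) t (by omega) hin.1 hin.2 hjpos hdiv (z _ _ (Or.inr (Or.inr (by omega))))
    · exact z _ _ (by omega)
  ext m
  rw [m2_eta m, coeff_zero]
  by_contra hne
  obtain ⟨hij, hi, hj⟩ := hsupp _ _ hne
  obtain ⟨s, hs, hdiv, -⟩ := hval (m 0) (by omega)
  exact hne (step _ _ s hij hi hj hs hdiv (pivot s))

end Groth.Agent.GaAlpha87
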