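import Groth.Agent.GaFrob87.Lift

/-!
# Lifting sections along nilpotent thickenings with a retraction
-/

set_option autoImplicit false
set_option linter.style.haveILetI false

universe u

open CategoryTheory CategoryTheory.Limits AlgebraicGeometry Opposite MonObj GrpObj MonoidalCategory CartesianMonoidalCategory
open Groth.Agent.SGA1Torsor Groth.Agent.GaExt87 Groth.Agent.GaFrob87

noncomputable section

namespace Groth.Agent.GaAlpha87

local notation "Kf" => Scheme.fppfPrecoverage

section Loc

variable {B : Type u} [CommRing B] (rho : B →+* B)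

/-- The endomorphism of a localization at a fixed element. -/
def theta {f : B} (hf : rho f = f) : Localization.Away f →+* Localization.Away f :=
  IsLocalization.map (Localization.Away f) rho (show Submonoid.powers f ≤ (Submonoid.powers f).comap rho from
    Submonoid.powers_le.2 (by show rho f ∈ Submonoid.powers f; rw [hf]; exact Submonoid.mem_powers f))

theorem theta_algebraMap {f : B} (hf : rho f = f) (b : B) :
    theta rho hf (algebraMap B _ b) = algebraMap B _ (rho b) := IsLocalization.map_eq _ _

theorem theta_sub_nilpotent (hnil : ∀ b, IsNilpotent (rho b - b)) {f : B} (hf : rho f = f) (z : Localization.Away f) :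
    IsNilpotent (theta rho hf z - z) := by
  obtain ⟨m, b, hb⟩ := IsLocalization.Away.surj f z
  have h1 := congrArg (theta rho hf) hb
  rw [map_mul, map_pow, theta_algebraMap, theta_algebraMap, hf] at h1
  have h2 : (theta rho hf z - z) * algebraMap B (Localization.Away f) f ^ m = algebraMap B _ (rho b - b) := by
    rw [map_sub, sub_mul, h1, hb]
  obtain ⟨u, hu⟩ := ((isUnit_algebraMap_away f).pow m).exists_right_inv
  have h3 : theta rho hf z - z = algebraMap B _ (rho b - b) * u := by
    linear_combination u * h2 - (theta rho hf z - z) * hu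
  rw [h3]
  exact (Commute.all _ _).isNilpotent_mul_right ((hnil b).map (algebraMap B (Localization.Away f)))

theorem theta_toL {f g : B} (hf : rho f = f) (hfg : rho (f * g) = f * g) (z : Localization.Away f) :
    theta rho hfg (toL f g z) = toL f g (theta rho hf z) := by
  refine RingHom.congr_fun (?_ : (theta rho hfg).comp (toL f g).toRingHom = (toL f g).toRingHom.comp (theta rho hf)) z
  refine IsLocalization.ringHom_ext (Submonoid.powers f) (RingHom.ext fun b => ?_)
  show theta rho hfg (toL f g (algebraMap B _ b)) = toL f g (theta rho hf (algebraMap B _ b))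
  rw [AlgHom.commutes, theta_algebraMap, theta_algebraMap, AlgHom.commutes]

theorem theta_toR {f g : B} (hg : rho g = g) (hfg : rho (f * g) = f * g) (z : Localization.Away g) :
    theta rho hfg (toR f g z) = toR f g (theta rho hg z) := by
  refine RingHom.congr_fun (?_ : (theta rho hfg).comp (toR f g).toRingHom = (toR f g).toRingHom.comp (theta rho hg)) z
  refine IsLocalization.ringHom_ext (Submonoid.powers g) (RingHom.ext fun b => ?_)
  show theta rho hfg (toR f g (algebraMap B _ b)) = toR f g (theta rho hg (algebraMap B _ b))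
  rw [AlgHom.commutes, theta_algebraMap, theta_algebraMap, AlgHom.commutes]

end Loc

variable {S : Scheme.{u}} {I Q : BigSite.Ab Kf S} {em : CGrpSh2.Gm Kf S ⟶ I} {π : I ⟶ Q} {w : em ≫ π = 0}
variable {B : Type u} [CommRing B] (j : Spec (CommRingCat.of B) ⟶ S) (rho : B →+* B)

/-- The endomorphism of the thickening. -/
def rhoS (heta : Spec.map (CommRingCat.ofHom rho) ≫ j = j) : Over.mk j ⟶ Over.mk j :=
  Over.homMk (Spec.map (CommRingCat.ofHom rho)) heta

/-- Its restriction to a basic open. -/
def rhoQ (heta : Spec.map (CommRingCat.ofHom rho) ≫ j = j) {f : B} (hf : rho f = f) :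
    QA j (Localization.Away f) ⟶ QA j (Localization.Away f) :=
  Over.homMk (Spec.map (CommRingCat.ofHom (theta rho hf))) (by
    show Spec.map _ ≫ Spec.map _ ≫ j = Spec.map _ ≫ j
    rw [← Spec.map_comp_assoc, ← CommRingCat.ofHom_comp,
      show (theta rho hf).comp (algebraMap B _) = (algebraMap B (Localization.Away f)).comp rho from
        RingHom.ext (theta_algebraMap rho hf),
      CommRingCat.ofHom_comp, Spec.map_comp_assoc, heta])

theorem rhoQ_st (heta : Spec.map (CommRingCat.ofHom rho) ≫ j = j) {f : B} (hf : rho f = f) :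
    rhoQ j rho heta hf ≫ st j (Localization.Away f) = st j (Localization.Away f) ≫ rhoS j rho heta :=
  Over.OverMorphism.ext (by
    show Spec.map _ ≫ Spec.map _ = Spec.map _ ≫ Spec.map _
    rw [← Spec.map_comp, ← Spec.map_comp, ← CommRingCat.ofHom_comp, ← CommRingCat.ofHom_comp]
    exact congrArg (fun r => Spec.map (CommRingCat.ofHom r)) (RingHom.ext (theta_algebraMap rho hf)))

theorem rr_rhoQ_emQ (heta : Spec.map (CommRingCat.ofHom rho) ≫ j = j) {f : B} (hf : rho f = f)
    (a : (Localization.Away f)ˣ) :
    rr I (rhoQ j rho heta hf) (emQ em j a) = emQ em j (Units.map (theta rho hf).toMonoidHom a) := by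
  refine (rr_emb em (rhoQ j rho heta hf) _).trans (congrArg (emb em _) (Units.ext ?_))
  exact (congr($(Scheme.ΓSpecIso_inv_naturality (CommRingCat.ofHom (theta rho hf))) (a : Localization.Away f))).symm

theorem rhoQ_qmap_toL (heta : Spec.map (CommRingCat.ofHom rho) ≫ j = j) {f g : B} (hf : rho f = f)
    (hfg : rho (f * g) = f * g) :
    rhoQ j rho heta hfg ≫ qmap j (toL f g) = qmap j (toL f g) ≫ rhoQ j rho heta hf :=
  Over.OverMorphism.ext (by
    show Spec.map _ ≫ Spec.map _ = Spec.map _ ≫ Spec.map _
    rw [← Spec.map_comp, ← Spec.map_comp, ← CommRingCat.ofHom_comp, ← CommRingCat.ofHom_comp]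
    exact congrArg (fun r => Spec.map (CommRingCat.ofHom r)) (RingHom.ext (theta_toL rho hf hfg)))

theorem rhoQ_qmap_toR (heta : Spec.map (CommRingCat.ofHom rho) ≫ j = j) {f g : B} (hg : rho g = g)
    (hfg : rho (f * g) = f * g) :
    rhoQ j rho heta hfg ≫ qmap j (toR f g) = qmap j (toR f g) ≫ rhoQ j rho heta hg :=
  Over.OverMorphism.ext (by
    show Spec.map _ ≫ Spec.map _ = Spec.map _ ≫ Spec.map _
    rw [← Spec.map_comp, ← Spec.map_comp, ← CommRingCat.ofHom_comp, ← CommRingCat.ofHom_comp]
    exact congrArg (fun r => Spec.map (CommRingCat.ofHom r)) (RingHom.ext (theta_toR rho hg hfg)))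

/-- A section vanishing on the retract of a thickening lifts. -/
theorem exists_lift_thickening (hS : (ShortComplex.mk em π w).ShortExact)
    (heta : Spec.map (CommRingCat.ofHom rho) ≫ j = j) (hnil : ∀ b, IsNilpotent (rho b - b)) (hidem : ∀ b, rho (rho b) = rho b)
    (s : BigSite.sect Kf Q (Over.mk j)) (hs : rr Q (rhoS j rho heta) s = 0) : ∃ t, sap π (Over.mk j) t = s := by
  classical
  let T : Set B := {f | rho f = f ∧ ∃ y : BigSite.sect Kf I (QA j (Localization.Away f)),
    sap π _ y = rr Q (st j (Localization.Away f)) s}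
  have hT : Ideal.span T = ⊤ := by
    by_contra hne
    obtain ⟨P, hP, hle⟩ := Ideal.exists_le_maximal _ hne
    obtain ⟨V, hPV, t, ht⟩ := exists_lift_basicOpen hS j s ⟨P, hP.isPrime⟩
    obtain ⟨_, ⟨f, rfl⟩, hPf, hfV⟩ :=
      PrimeSpectrum.isTopologicalBasis_basic_opens.exists_subset_of_mem_open hPV V.isOpen
    have hbo : PrimeSpectrum.basicOpen (rho f) = PrimeSpectrum.basicOpen f := TopologicalSpace.Opens.ext (Set.ext fun x => by
      have h1 : rho f - f ∈ x.asIdeal := nilradical_le_prime x.asIdeal (mem_nilradical.2 (hnil f))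
      show rho f ∉ x.asIdeal ↔ f ∉ x.asIdeal
      exact not_congr ⟨fun h => by simpa using sub_mem h h1, fun h => by simpa using add_mem h1 h⟩)
    have hPf' : rho f ∉ P := (show (⟨P, hP.isPrime⟩ : PrimeSpectrum B) ∈ PrimeSpectrum.basicOpen (rho f) from hbo.symm ▸ hPf)
    refine hPf' (hle (Ideal.subset_span ⟨hidem f, ?_⟩))
    let l : Spec (CommRingCat.of (Localization.Away (rho f))) ⟶ (V : Scheme.{u}) :=
      IsOpenImmersion.lift V.ι (Spec.map (CommRingCat.ofHom (algebraMap _ (Localization.Away (rho f))))) (by
        rw [Scheme.Opens.range_ι]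
        show Set.range (PrimeSpectrum.comap (algebraMap _ (Localization.Away (rho f)))) ⊆ _
        rw [PrimeSpectrum.localization_away_comap_range (Localization.Away (rho f)) (rho f), hbo]
        exact hfV)
    have hl : l ≫ V.ι = Spec.map (CommRingCat.ofHom (algebraMap _ (Localization.Away (rho f)))) :=
      IsOpenImmersion.lift_fac _ _ _
    let g : QA j (Localization.Away (rho f)) ⟶ Over.mk (V.ι ≫ j) := Over.homMk l (by
      show l ≫ V.ι ≫ j = Spec.map _ ≫ j
      rw [reassoc_of% hl])
    refine ⟨rr I g t, ?_⟩
    rw [sap_rr, ht, ← rr_comp]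
    exact congrArg (fun h => rr Q h s) (Over.OverMorphism.ext hl)
  obtain ⟨T', hT'T, hT'⟩ := Submodule.mem_span_finite_of_mem_span ((Ideal.eq_top_iff_one _).1 hT)
  let e := T'.equivFin.symm
  let f : Fin T'.card → B := fun i => (e i : B)
  have hf : Ideal.span (Set.range f) = ⊤ := (Ideal.eq_top_iff_one _).2 (by
    refine Ideal.span_mono ?_ hT'
    intro x hx
    exact ⟨e.symm ⟨x, hx⟩, by simp [f]⟩)
  have hfix : ∀ i, rho (f i) = f i := fun i => (hT'T (e i).2).1
  have hfix2 : ∀ k i, rho (f k * f i) = f k * f i := fun k i => by rw [map_mul, hfix, hfix]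
  choose y hy using fun i : Fin T'.card => (hT'T (e i).2).2
  have hd : ∀ k i, ∃ a : (Localization.Away (f k * f i))ˣ,
      emQ em j a = rr I (qmap j (toL (f k) (f i))) (y k) - rr I (qmap j (toR (f k) (f i))) (y i) := fun k i =>
    exists_emQ hS j _ (by rw [map_sub, sap_rr, sap_rr, hy, hy, rr_qmap_st, rr_qmap_st, sub_self])
  choose a ha using hd
  have hu : ∀ i, ∃ u : (Localization.Away (f i))ˣ, emQ em j u = rr I (rhoQ j rho heta (hfix i)) (y i) := fun i =>
    exists_emQ hS j _ (by rw [sap_rr, hy, ← rr_comp, rhoQ_st, rr_comp, hs, map_zero])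
  choose u hu using hu
  have hrel : ∀ k i, theta rho (hfix2 k i) (a k i : Localization.Away (f k * f i)) *
      toR (f k) (f i) (u i : Localization.Away (f i)) = toL (f k) (f i) (u k : Localization.Away (f k)) := fun k i =>
    congrArg Units.val (emQ_injective hS j
      (a₁ := Units.map (theta rho (hfix2 k i)).toMonoidHom (a k i) * Units.map (toR (f k) (f i)).toMonoidHom (u i))
      (a₂ := Units.map (toL (f k) (f i)).toMonoidHom (u k)) (by
        rw [emQ_mul, ← rr_rhoQ_emQ j rho heta, ← rr_emQ, ← rr_emQ, ha, hu, hu, map_sub, ← rr_comp, ← rr_comp, ← rr_comp,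
          ← rr_comp, rhoQ_qmap_toL j rho heta (hfix k), rhoQ_qmap_toR j rho heta (hfix i), sub_add_cancel]))
  have hc : IsCoc f a := fun k l i C _ _ h₁ h₂ h₃ =>
    congrArg Units.val (emQ_injective hS j
      (a₁ := Units.map (awayTo _ C h₁).toMonoidHom (a k l) * Units.map (awayTo _ C h₂).toMonoidHom (a l i))
      (a₂ := Units.map (awayTo _ C h₃).toMonoidHom (a k i)) (by
        rw [emQ_mul, ← rr_emQ, ← rr_emQ, ← rr_emQ, ha, ha, ha, map_sub, map_sub, map_sub, rr_qmap_qmap,
          rr_qmap_qmap, rr_qmap_qmap, rr_qmap_qmap, rr_qmap_qmap, rr_qmap_qmap,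
          away_hom_ext ((awayTo _ C h₂).comp (toL (f l) (f i))) ((awayTo _ C h₁).comp (toR (f k) (f l))),
          away_hom_ext ((awayTo _ C h₃).comp (toL (f k) (f i))) ((awayTo _ C h₁).comp (toL (f k) (f l))),
          away_hom_ext ((awayTo _ C h₃).comp (toR (f k) (f i))) ((awayTo _ C h₂).comp (toR (f l) (f i)))]
        abel))
  obtain ⟨t, ht⟩ := exists_coboundary f hf a hc u fun k i => by
    have h1 := (Commute.all _ (toR (f k) (f i) (u i : Localization.Away (f i)))).isNilpotent_mul_right
      (theta_sub_nilpotent rho hnil (hfix2 k i) (a k i : Localization.Away (f k * f i))).neg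
    rw [← hrel, ← sub_mul]
    simpa using h1
  let y' : ∀ i, BigSite.sect Kf I (QA j (Localization.Away (f i))) := fun i => y i - emQ em j (t i)
  have hy' : ∀ k i, rr I (qmap j (toL (f k) (f i))) (y' k) = rr I (qmap j (toR (f k) (f i))) (y' i) := fun k i => by
    have h1 : Units.map (toL (f k) (f i)).toMonoidHom (t k) =
        a k i * Units.map (toR (f k) (f i)).toMonoidHom (t i) := Units.ext (ht k i).symm
    simp only [y', map_sub, rr_emQ]
    rw [h1, emQ_mul, ha]
    abel
  have himm : ∀ (g : B), IsOpenImmersion (st j (Localization.Away g)).left := fun g =>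
    IsOpenImmersion.of_isLocalization g
  have hrange : ∀ (g : B),
      Set.range (st j (Localization.Away g)).left = (PrimeSpectrum.basicOpen g : Set (PrimeSpectrum B)) :=
    fun g => PrimeSpectrum.localization_away_comap_range (Localization.Away g) g
  have hcov : Presieve.ofArrows (fun i => (QA j (Localization.Away (f i))).left)
      (fun i => (st j (Localization.Away (f i))).left) ∈ (Kf).coverings (Over.mk j).left := by
    refine Scheme.zariskiPrecoverage_le_fppfPrecoverage _ ?_
    rw [Scheme.zariskiPrecoverage, Scheme.ofArrows_mem_precoverage_iff]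
    refine ⟨fun x => ?_, fun i => himm _⟩
    obtain ⟨i, hi⟩ : ∃ i, f i ∉ (show PrimeSpectrum B from x).asIdeal := by
      by_contra hne
      push Not at hne
      exact (show PrimeSpectrum B from x).isPrime.ne_top
        (top_le_iff.1 (hf ▸ Ideal.span_le.2 (Set.range_subset_iff.2 hne)))
    exact ⟨i, (hrange (f i)).ge hi⟩
  obtain ⟨t', ht'⟩ := exists_glue I (fun i => QA j (Localization.Away (f i))) (fun i => st j (Localization.Away (f i)))
    hcov y' (fun k i Z gk gi hg => by
      haveI := himm (f k * f i)
      haveI := himm (f k)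
      haveI := himm (f i)
      let l : Z.left ⟶ (QA j (Localization.Away (f k * f i))).left :=
        IsOpenImmersion.lift (st j (Localization.Away (f k * f i))).left (gk.left ≫ (st j _).left) (by
          rintro _ ⟨z, rfl⟩
          rw [hrange]
          show f k * f i ∉ ((gk.left ≫ (st j (Localization.Away (f k))).left) z).asIdeal
          intro hmem
          rcases ((gk.left ≫ (st j (Localization.Away (f k))).left) z).isPrime.mem_or_mem hmem with h | h
          · exact (hrange (f k)).le ⟨gk.left z, rfl⟩ (by simpa using h)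
          · have e : gk.left ≫ (st j (Localization.Away (f k))).left = gi.left ≫ (st j (Localization.Away (f i))).left :=
              congrArg CommaMorphism.left hg
            rw [e] at h
            exact (hrange (f i)).le ⟨gi.left z, rfl⟩ (by simpa using h))
      have hl : l ≫ (st j (Localization.Away (f k * f i))).left = gk.left ≫ (st j (Localization.Away (f k))).left :=
        IsOpenImmersion.lift_fac _ _ _
      let h : Z ⟶ QA j (Localization.Away (f k * f i)) := Over.homMk l (by
        show l ≫ (Spec.map _ ≫ j) = Z.hom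
        rw [← Category.assoc]
        exact (congrArg (· ≫ j) hl).trans ((Category.assoc _ _ _).trans (Over.w gk)))
      have hk : h ≫ qmap j (toL (f k) (f i)) = gk := Over.OverMorphism.ext ((cancel_mono (st j _).left).1 (by
        refine Eq.trans ?_ hl
        exact (Category.assoc _ _ _).trans (congrArg (l ≫ ·) (congrArg CommaMorphism.left (qmap_st j (toL (f k) (f i)))))))
      have hi : h ≫ qmap j (toR (f k) (f i)) = gi := Over.OverMorphism.ext ((cancel_mono (st j _).left).1 (by
        refine Eq.trans ?_ (hl.trans (congrArg CommaMorphism.left hg))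
        exact (Category.assoc _ _ _).trans (congrArg (l ≫ ·) (congrArg CommaMorphism.left (qmap_st j (toR (f k) (f i)))))))
      rw [← hk, ← hi, rr_comp, rr_comp, hy'])
  refine ⟨t', eq_of_cover Q (fun i => QA j (Localization.Away (f i))) (fun i => st j (Localization.Away (f i)))
    hcov fun i => ?_⟩
  rw [← sap_rr, ht', map_sub, hy, show sap π _ (emQ em j (t i)) = 0 from sap_emb em _ _ w, sub_zero]

end Groth.Agent.GaAlpha87
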