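import Groth.Agent.GaAlpha87.Split
import Groth.Agent.GaAlpha87.Thick
import Mathlib.AlgebraicGeometry.Group.Affine

/-!
# `Ext^1(α_{p^n}, G_m) = 0` over rings with surjective Frobenius
-/

set_option autoImplicit false
set_option linter.style.haveILetI false
set_option backward.isDefEq.respectTransparency false

universe u

open CategoryTheory CategoryTheory.Limits AlgebraicGeometry Opposite MonObj GrpObj MonoidalCategory CartesianMonoidalCategory
open Groth.Agent.SGA1Torsor Groth.Agent.GaExt87 Groth.Agent.GaFrob87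
open scoped TensorProduct

noncomputable section

namespace Groth.Agent.GaAlpha87

local notation "Kf" => Scheme.fppfPrecoverage

variable (p : ℕ) [hp : Fact p.Prime] (R : Type u) [CommRing R] [CharP R p] (n : ℕ)

/-- The group scheme `α_{p^n}`. -/
abbrev Alp : Over (Spec (CommRingCat.of R)) :=
  (Spec (CommRingCat.of (AlphaPn.A p n R))).asOver (Spec (CommRingCat.of R))

variable {R}

/-- Global functions as an algebra over the base ring. -/
@[implicit_reducible] def algT (T : Over (Spec (CommRingCat.of R))) : Algebra R Γ(T.left, ⊤) := (str T).toAlgebra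

attribute [local instance] algT

/-- Pullback of functions. -/
def pullA {T T' : Over (Spec (CommRingCat.of R))} (h : T' ⟶ T) : Γ(T.left, ⊤) →ₐ[R] Γ(T'.left, ⊤) where
  __ := h.left.appTop.hom
  commutes' r := by
    show h.left.appTop (str T r) = str T' r
    show ((Scheme.ΓSpecIso (CommRingCat.of R)).inv ≫ T.hom.appTop ≫ h.left.appTop) r =
      ((Scheme.ΓSpecIso (CommRingCat.of R)).inv ≫ T'.hom.appTop) r
    rw [← Scheme.Hom.comp_appTop, Over.w h]

/-- The coordinate ring of an affine object as functions. -/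
def fnA (D : Type u) [CommRing D] [Algebra R D] : D →ₐ[R] Γ((QA (j₀ R) D).left, ⊤) where
  __ := (fn (j₀ R) D).symm.toRingHom
  commutes' r := str_comp (𝟙 (QA (j₀ R) D)) r

variable {p n} {T : Over (Spec (CommRingCat.of R))}

/-- A point as an algebra map. -/
def ptA (c : T ⟶ Alp p R n) : AlphaPn.A p n R →ₐ[R] Γ(T.left, ⊤) where
  __ := ((Scheme.ΓSpecIso (CommRingCat.of (AlphaPn.A p n R))).inv ≫ c.left.appTop).hom
  commutes' r := by
    show (CommRingCat.ofHom (algebraMap R (AlphaPn.A p n R)) ≫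
      (Scheme.ΓSpecIso (CommRingCat.of (AlphaPn.A p n R))).inv ≫ c.left.appTop) r =
      ((Scheme.ΓSpecIso (CommRingCat.of R)).inv ≫ T.hom.appTop) r
    have key : ∀ (k : T.left ⟶ Spec (CommRingCat.of (AlphaPn.A p n R))),
        k ≫ Spec.map (CommRingCat.ofHom (algebraMap R (AlphaPn.A p n R))) = T.hom →
        (CommRingCat.ofHom (algebraMap R (AlphaPn.A p n R)) ≫
          (Scheme.ΓSpecIso (CommRingCat.of (AlphaPn.A p n R))).inv ≫ k.appTop) r =
        ((Scheme.ΓSpecIso (CommRingCat.of R)).inv ≫ T.hom.appTop) r := fun k hk => by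
      rw [Scheme.ΓSpecIso_inv_naturality_assoc, ← Scheme.Hom.comp_appTop, hk]
    exact key c.left (Over.w c)

theorem left_eq (c : T ⟶ Alp p R n) :
    c.left = T.left.toSpecΓ ≫ Spec.map (CommRingCat.ofHom (ptA c).toRingHom) := by
  have key : ∀ (k : T.left ⟶ Spec (CommRingCat.of (AlphaPn.A p n R))),
      k = T.left.toSpecΓ ≫ Spec.map ((Scheme.ΓSpecIso (CommRingCat.of (AlphaPn.A p n R))).inv ≫ k.appTop) := fun k => by
    rw [Spec.map_comp, ← Scheme.toSpecΓ_naturality_assoc]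
    simp
  exact key c.left

/-- The coordinate of a point. -/
def bv (c : T ⟶ Alp p R n) : Γ(T.left, ⊤) := ptA c (AlphaPn.x p n R)

theorem bv_pow (c : T ⟶ Alp p R n) : bv c ^ (p ^ n) = 0 := by rw [bv, ← map_pow, AlphaPn.x_pow, map_zero]

theorem ptA_eq (c : T ⟶ Alp p R n) : ptA c = evA R p n (bv c) (bv_pow c) :=
  AlphaPn.algHom_ext (AlphaPn.lift_x _ _).symm

theorem pt_ext {c d : T ⟶ Alp p R n} (h : bv c = bv d) : c = d := by
  refine Over.OverMorphism.ext ?_
  rw [left_eq c, left_eq d, show ptA c = ptA d from AlphaPn.algHom_ext h]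

theorem bv_comp {T' : Over (Spec (CommRingCat.of R))} (h : T' ⟶ T) (c : T ⟶ Alp p R n) :
    bv (h ≫ c) = h.left.appTop (bv c) := rfl

/-- The point with given coordinate. -/
def mkPt (b : Γ(T.left, ⊤)) (hb : b ^ (p ^ n) = 0) : T ⟶ Alp p R n :=
  Over.homMk (T.left.toSpecΓ ≫ Spec.map (CommRingCat.ofHom (evA R p n b hb).toRingHom)) (by
    show (T.left.toSpecΓ ≫ Spec.map _) ≫ Spec.map (CommRingCat.ofHom (algebraMap R (AlphaPn.A p n R))) = T.hom
    rw [Category.assoc, ← Spec.map_comp, ← CommRingCat.ofHom_comp, AlgHom.toRingHom_eq_coe, AlgHom.comp_algebraMap]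
    show T.left.toSpecΓ ≫ Spec.map ((Scheme.ΓSpecIso (CommRingCat.of R)).inv ≫ T.hom.appTop) = T.hom
    rw [Spec.map_comp, ← Scheme.toSpecΓ_naturality_assoc]
    simp)

theorem bv_mkPt (b : Γ(T.left, ⊤)) (hb : b ^ (p ^ n) = 0) : bv (mkPt b hb) = b := by
  have h : (Scheme.ΓSpecIso (CommRingCat.of (AlphaPn.A p n R))).inv ≫
      (T.left.toSpecΓ ≫ Spec.map (CommRingCat.ofHom (evA R p n b hb).toRingHom)).appTop =
      CommRingCat.ofHom (evA R p n b hb).toRingHom := by
    simp only [Scheme.Hom.comp_appTop, ← Scheme.ΓSpecIso_inv_naturality_assoc, Scheme.toSpecΓ_appTop]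
    simp
  exact (congr($h (AlphaPn.x p n R))).trans (AlphaPn.lift_x b hb)

theorem bv_mul (c d : T ⟶ Alp p R n) : bv (c * d) = bv c + bv d := by
  let T₀ : Over (Spec (CommRingCat.of R)) :=
    (Spec (CommRingCat.of Γ(T.left, ⊤))).asOver (Spec (CommRingCat.of R))
  let k : T ⟶ T₀ := Over.homMk T.left.toSpecΓ (by
    show T.left.toSpecΓ ≫ Spec.map ((Scheme.ΓSpecIso (CommRingCat.of R)).inv ≫ T.hom.appTop) = T.hom
    rw [Spec.map_comp, ← Scheme.toSpecΓ_naturality_assoc]
    simp)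
  let e := Spec.mapMulEquiv (R := R) (S := AlphaPn.A p n R) (T := Γ(T.left, ⊤))
  have key : ∀ z : T ⟶ Alp p R n, z = k ≫ e (WithConv.toConv (ptA z)) := fun z => Over.OverMorphism.ext (left_eq z)
  have hmul : c * d = k ≫ e (WithConv.toConv (ptA c) * WithConv.toConv (ptA d)) := by
    rw [map_mul, MonObj.comp_mul, ← key c, ← key d]
  let g : AlphaPn.A p n R →ₐ[R] Γ(T.left, ⊤) := (WithConv.toConv (ptA c) * WithConv.toConv (ptA d)).ofConv
  have hg : g (AlphaPn.x p n R) = bv c + bv d := by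
    simp only [g, AlgHom.convMul_apply, AlphaPn.comul_x, map_add, Algebra.TensorProduct.lift_tmul, map_one]
    simp [bv]
  have hpow : (bv c + bv d) ^ (p ^ n) = 0 := AlphaPn.add_pow_eq_zero p n R (Commute.all _ _) (bv_pow c) (bv_pow d)
  rw [← bv_mkPt (bv c + bv d) hpow]
  refine congrArg bv (hmul.trans (Over.OverMorphism.ext ?_))
  show T.left.toSpecΓ ≫ Spec.map (CommRingCat.ofHom g.toRingHom) =
    T.left.toSpecΓ ≫ Spec.map (CommRingCat.ofHom (evA R p n (bv c + bv d) hpow).toRingHom)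
  rw [show g = evA R p n (bv c + bv d) hpow from AlphaPn.algHom_ext (hg.trans (AlphaPn.lift_x _ _).symm)]

theorem bv_one : bv (1 : T ⟶ Alp p R n) = 0 := by
  have h := bv_mul (1 : T ⟶ Alp p R n) 1
  rw [_root_.mul_one] at h
  exact left_eq_add.1 h

/-- A point as a section. -/
def pG (c : T ⟶ Alp p R n) : BigSite.sect Kf (CGrpSh.pts Kf (Alp p R n)) T := ULift.up (Additive.ofMul c)

theorem pG_mul (c d : T ⟶ Alp p R n) : pG (c * d) = pG c + pG d := rfl

theorem pG_one : pG (1 : T ⟶ Alp p R n) = 0 := rfl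

theorem rr_pG {T' : Over (Spec (CommRingCat.of R))} (h : T' ⟶ T) (c : T ⟶ Alp p R n) :
    rr (CGrpSh.pts Kf (Alp p R n)) h (pG c) = pG (h ≫ c) := rfl

variable {I Q : BigSite.Ab Kf (Spec (CommRingCat.of R))} {em : CGrpSh2.Gm Kf (Spec (CommRingCat.of R)) ⟶ I}
  {π : I ⟶ Q} {w : em ≫ π = 0}

theorem exists_lift_universal (hS : (ShortComplex.mk em π w).ShortExact) (σ : CGrpSh.pts Kf (Alp p R n) ⟶ Q) :
    ∃ t, sap π (Alp p R n) t = sap σ _ (pG (𝟙 (Alp p R n))) := by
  let e0 : AlphaPn.A p n R →ₐ[R] AlphaPn.A p n R := evA R p n 0 (zero_pow (pow_ne_zero n hp.out.ne_zero))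
  let jB : Spec (CommRingCat.of (AlphaPn.A p n R)) ⟶ Spec (CommRingCat.of R) :=
    Spec.map (CommRingCat.ofHom (algebraMap R (AlphaPn.A p n R)))
  have hη : Spec.map (CommRingCat.ofHom e0.toRingHom) ≫ jB = jB := by
    rw [← Spec.map_comp, ← CommRingCat.ofHom_comp, AlgHom.toRingHom_eq_coe, AlgHom.comp_algebraMap]
  have hidem : ∀ b, e0.toRingHom (e0.toRingHom b) = e0.toRingHom b := fun b =>
    AlgHom.congr_fun (AlphaPn.algHom_ext (f := e0.comp e0) (g := e0) (by
      rw [AlgHom.comp_apply, AlphaPn.lift_x, map_zero])) b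
  have hnil : ∀ b, IsNilpotent (e0.toRingHom b - b) := fun b => by
    obtain ⟨P, rfl⟩ := AlphaPn.mk_surjective p n R b
    show IsNilpotent (e0 (AlphaPn.mk p n R P) - AlphaPn.mk p n R P)
    rw [← AlphaPn.aeval_x, ← Polynomial.aeval_algHom_apply, AlphaPn.lift_x]
    obtain ⟨c, hc⟩ := Polynomial.sub_dvd_eval_sub (0 : AlphaPn.A p n R) (AlphaPn.x p n R) (P.map (algebraMap R _))
    rw [Polynomial.eval_map_algebraMap, Polynomial.eval_map_algebraMap] at hc
    rw [hc, zero_sub]
    exact (Commute.all _ _).isNilpotent_mul_right isNilpotent_x.neg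
  refine exists_lift_thickening (B := AlphaPn.A p n R) jB e0.toRingHom hS hη hnil hidem
    (sap σ (Alp p R n) (pG (𝟙 (Alp p R n)))) ?_
  let c : Alp p R n ⟶ Alp p R n := rhoS jB e0.toRingHom hη
  have hc : c = 1 := pt_ext (by
    rw [bv_one]
    show (Spec.map (CommRingCat.ofHom e0.toRingHom)).appTop
      ((Scheme.ΓSpecIso (CommRingCat.of (AlphaPn.A p n R))).inv (AlphaPn.x p n R)) = 0
    rw [← ConcreteCategory.comp_apply, ← Scheme.ΓSpecIso_inv_naturality, ConcreteCategory.comp_apply]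
    show (Scheme.ΓSpecIso (CommRingCat.of (AlphaPn.A p n R))).inv (e0 (AlphaPn.x p n R)) = 0
    rw [AlphaPn.lift_x, map_zero])
  refine (sap_rr σ c (pG (𝟙 (Alp p R n)))).symm.trans ?_
  rw [rr_pG, Category.comp_id, hc, pG_one, map_zero]

/-- Morphisms from `α_{p^n}` to a quotient by the multiplicative group lift. -/
theorem exists_hom_lift (hS : (ShortComplex.mk em π w).ShortExact) (hF : Function.Surjective (frobenius R p))
    (σ : CGrpSh.pts Kf (Alp p R n) ⟶ Q) : ∃ τ : CGrpSh.pts Kf (Alp p R n) ⟶ I, τ ≫ π = σ := by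
  obtain ⟨t, ht⟩ := exists_lift_universal hS σ
  let L : ∀ {T : Over (Spec (CommRingCat.of R))}, (T ⟶ Alp p R n) → BigSite.sect Kf I T :=
    fun {T} c => rr I c t - rr I 1 t
  have hL : ∀ {T T' : Over (Spec (CommRingCat.of R))} (h : T' ⟶ T) (c : T ⟶ Alp p R n),
      rr I h (L c) = L (h ≫ c) := fun h c => by simp only [L, map_sub, ← rr_comp, MonObj.comp_one]
  have hπL : ∀ {T : Over (Spec (CommRingCat.of R))} (c : T ⟶ Alp p R n), sap π T (L c) = sap σ T (pG c) :=
    fun c => by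
      simp only [L, map_sub, sap_rr, ht]
      rw [← sap_rr, ← sap_rr, rr_pG, rr_pG, Category.comp_id, Category.comp_id, pG_one, map_zero, sub_zero]
  let Ex : ∀ {T : Over (Spec (CommRingCat.of R))}, (T ⟶ Alp p R n) → (T ⟶ Alp p R n) → BigSite.sect Kf I T :=
    fun c d => L c + L d - L (c * d)
  have hE : ∀ {T T' : Over (Spec (CommRingCat.of R))} (h : T' ⟶ T) (c d : T ⟶ Alp p R n),
      rr I h (Ex c d) = Ex (h ≫ c) (h ≫ d) := fun h c d => by simp only [Ex, map_sub, map_add, hL, MonObj.comp_mul]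
  let C2 := TR R (p ^ n) (Fin 2)
  let c0 : QA (j₀ R) C2 ⟶ Alp p R n := mkPt (fnA C2 (tx R _ 0)) (by rw [← map_pow, tx_pow, map_zero])
  let d0 : QA (j₀ R) C2 ⟶ Alp p R n := mkPt (fnA C2 (tx R _ 1)) (by rw [← map_pow, tx_pow, map_zero])
  obtain ⟨v, hv⟩ := exists_emQ hS (j₀ R) (Ex c0 d0) (by
    simp only [Ex, map_sub, map_add, hπL, pG_mul, sub_self])
  have key : ∀ {T : Over (Spec (CommRingCat.of R))} (c d : T ⟶ Alp p R n),
      Ex c d = emb em T (Units.map (ev2 (R := R) (bv c) (bv d) (bv_pow c) (bv_pow d)).toMonoidHom v) := by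
    intro T c d
    let ev := ev2 (R := R) (bv c) (bv d) (bv_pow c) (bv_pow d)
    let h : T ⟶ QA (j₀ R) C2 := toQA ev.toRingHom (RingHom.ext fun r => ev.commutes r)
    have e0 : h ≫ c0 = c := pt_ext (by
      rw [bv_comp, bv_mkPt]
      refine (app_toQA _ _ _).trans ?_
      show MvPolynomial.aeval ![bv c, bv d] (MvPolynomial.X 0) = bv c
      rw [MvPolynomial.aeval_X]
      rfl)
    have e1 : h ≫ d0 = d := pt_ext (by
      rw [bv_comp, bv_mkPt]
      refine (app_toQA _ _ _).trans ?_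
      show MvPolynomial.aeval ![bv c, bv d] (MvPolynomial.X 1) = bv d
      rw [MvPolynomial.aeval_X]
      rfl)
    rw [← congrArg₂ Ex e0 e1, ← hE, ← hv]
    exact (rr_emb em h _).trans (congrArg (emb em _) (Units.ext (app_toQA _ _ _)))
  haveI := hS.mono_f
  have keyD : ∀ (D : Type u) [CommRing D] [Algebra R D] (a b : D) (ha : a ^ (p ^ n) = 0) (hb : b ^ (p ^ n) = 0)
      (ha' : fnA D a ^ (p ^ n) = 0) (hb' : fnA D b ^ (p ^ n) = 0),
      Ex (mkPt (T := QA (j₀ R) D) (fnA D a) ha') (mkPt (fnA D b) hb') =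
        emQ em (j₀ R) (Units.map (ev2 a b ha hb).toMonoidHom v) := fun D _ _ a b ha hb ha' hb' => by
    rw [key]
    refine congrArg (emb em _) (Units.ext (AlgHom.congr_fun (Eq.symm (ev2_ext (φ := (fnA D).comp (ev2 a b ha hb))
      ?_ ?_)) (v : C2)))
    · rw [bv_mkPt, AlgHom.comp_apply, ev2_mk, MvPolynomial.aeval_X]; rfl
    · rw [bv_mkPt, AlgHom.comp_apply, ev2_mk, MvPolynomial.aeval_X]; rfl
  have hgood : Good (v : C2) := fun D _ _ a b c ha hb hc hab hbc => by
    have f : ∀ x : D, x ^ (p ^ n) = 0 → fnA (R := R) D x ^ (p ^ n) = 0 := fun x hx => by rw [← map_pow, hx, map_zero]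
    let P : ∀ x : D, x ^ (p ^ n) = 0 → (QA (j₀ R) D ⟶ Alp p R n) := fun x hx => mkPt (fnA D x) (f x hx)
    have hP : ∀ x y hx hy hxy, P (x + y) hxy = P x hx * P y hy := fun x y hx hy hxy => pt_ext (by
      rw [bv_mul, bv_mkPt, bv_mkPt, bv_mkPt, map_add])
    refine ⟨congrArg Units.val (emQ_injective hS (j₀ R)
      (a₁ := Units.map (ev2 b a hb ha).toMonoidHom v) (a₂ := Units.map (ev2 a b ha hb).toMonoidHom v) ?_),
      congrArg Units.val (emQ_injective hS (j₀ R)
      (a₁ := Units.map (ev2 b c hb hc).toMonoidHom v * Units.map (ev2 a (b + c) ha hbc).toMonoidHom v)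
      (a₂ := Units.map (ev2 (a + b) c hab hc).toMonoidHom v * Units.map (ev2 a b ha hb).toMonoidHom v) ?_)⟩
    · rw [← keyD D b a hb ha (f b hb) (f a ha), ← keyD D a b ha hb (f a ha) (f b hb)]
      simp only [Ex]
      rw [show mkPt (fnA D b) (f b hb) * mkPt (fnA D a) (f a ha) = mkPt (fnA D a) (f a ha) * mkPt (fnA D b) (f b hb) from
        pt_ext (by rw [bv_mul, bv_mul, add_comm])]
      abel
    · rw [emQ_mul, emQ_mul, ← keyD D b c hb hc (f b hb) (f c hc), ← keyD D a (b + c) ha hbc (f a ha) (f _ hbc),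
        ← keyD D (a + b) c hab hc (f _ hab) (f c hc), ← keyD D a b ha hb (f a ha) (f b hb)]
      show Ex (P b hb) (P c hc) + Ex (P a ha) (P (b + c) hbc) = Ex (P (a + b) hab) (P c hc) + Ex (P a ha) (P b hb)
      rw [hP b c hb hc hbc, hP a b ha hb hab]
      simp only [Ex]
      rw [show P a ha * (P b hb * P c hc) = P a ha * P b hb * P c hc from pt_ext (by simp only [bv_mul]; rw [add_assoc])]
      abel
  have h00 : ev2 (0 : R) 0 (zero_pow (pow_ne_zero n hp.out.ne_zero)) (zero_pow (pow_ne_zero n hp.out.ne_zero))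
      (v : C2) = 1 := by
    have hz : fnA (R := R) R (0 : R) ^ (p ^ n) = 0 := by rw [map_zero, zero_pow (pow_ne_zero n hp.out.ne_zero)]
    have h1 : mkPt (T := QA (j₀ R) R) (fnA (R := R) R (0 : R)) hz = (1 : _ ⟶ Alp p R n) := pt_ext (by
      rw [bv_mkPt, bv_one, map_zero])
    have h2 := keyD R 0 0 (zero_pow (pow_ne_zero n hp.out.ne_zero)) (zero_pow (pow_ne_zero n hp.out.ne_zero)) hz hz
    rw [h1] at h2
    simp only [Ex, L, _root_.mul_one, sub_self, add_zero] at h2
    exact congrArg Units.val (emQ_injective hS (j₀ R) (h2.symm.trans (emQ_one (em := em) (j₀ R)).symm))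
  obtain ⟨f, hf⟩ := exists_splitting hF hgood h00
  let L2 : ∀ {T : Over (Spec (CommRingCat.of R))}, (T ⟶ Alp p R n) → BigSite.sect Kf I T :=
    fun {T} c => L c + emb em T (Units.map (ptA c).toMonoidHom f)
  have hL2 : ∀ {T T' : Over (Spec (CommRingCat.of R))} (h : T' ⟶ T) (c : T ⟶ Alp p R n),
      rr I h (L2 c) = L2 (h ≫ c) := fun h c => by
    simp only [L2, map_add, hL, rr_emb]
    rfl
  have hadd : ∀ {T : Over (Spec (CommRingCat.of R))} (c d : T ⟶ Alp p R n), L2 (c * d) = L2 c + L2 d := by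
    intro T c d
    let ev := ev2 (R := R) (bv c) (bv d) (bv_pow c) (bv_pow d)
    have hcd : (bv c + bv d) ^ (p ^ n) = 0 := AlphaPn.add_pow_eq_zero p n R (Commute.all _ _) (bv_pow c) (bv_pow d)
    have h1 := congrArg ev hf
    rw [map_mul, map_one, ev2_dltA R p n f _ _ (bv_pow c) (bv_pow d) hcd, ← ptA_eq, ← ptA_eq,
      show evA R p n (bv c + bv d) hcd = ptA (c * d) from AlphaPn.algHom_ext (by
        rw [AlphaPn.lift_x]; exact (bv_mul c d).symm)] at h1
    have h2 : Units.map ev.toMonoidHom v * Units.map (ptA c).toMonoidHom f * Units.map (ptA d).toMonoidHom f =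
        Units.map (ptA (c * d)).toMonoidHom f := Units.ext (by
      have e : ptA (c * d) (f : AlphaPn.A p n R) * ptA (c * d) ((f⁻¹ : (AlphaPn.A p n R)ˣ) : AlphaPn.A p n R) = 1 := by
        rw [← map_mul, Units.mul_inv, map_one]
      show ev (v : C2) * ptA c (f : AlphaPn.A p n R) * ptA d (f : AlphaPn.A p n R) = ptA (c * d) (f : AlphaPn.A p n R)
      linear_combination ptA (c * d) (f : AlphaPn.A p n R) * h1 -
        (ev (v : C2) * ptA c (f : AlphaPn.A p n R) * ptA d (f : AlphaPn.A p n R)) * e)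
    simp only [L2]
    rw [← h2, emb_mul, emb_mul, ← key]
    simp only [Ex]
    abel
  let τ : CGrpSh.pts Kf (Alp p R n) ⟶ I := ⟨{
    app := fun T => AddCommGrpCat.ofHom (AddMonoidHom.mk'
      (fun z => L2 (show unop T ⟶ Alp p R n from Additive.toMul (ULift.down z))) (fun z z' => hadd _ _))
    naturality := fun T T' h => AddCommGrpCat.ext fun z => (hL2 h.unop _).symm }⟩
  refine ⟨τ, Sheaf.hom_ext (NatTrans.ext (funext fun T => AddCommGrpCat.ext fun z => ?_))⟩
  let c : unop T ⟶ Alp p R n := Additive.toMul (ULift.down z)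
  show sap π _ (L2 c) = sap σ _ (pG c)
  rw [← hπL c]
  simp only [L2, map_add, show ∀ a, sap π (unop T) (emb em _ a) = 0 from fun a => sap_emb em _ a w, add_zero]

/-- `Ext^1(α_{p^n}, G_m) = 0`. -/
theorem subsingleton_ext_one (hF : Function.Surjective (frobenius R p)) :
    Subsingleton (CGrpSh.ExtS Scheme.fppfPrecoverage (Alp p R n) (Red.Gm (Spec (CommRingCat.of R))) 1) := by
  refine subsingleton_of_forall_eq 0 fun e => ?_
  let S' := ShortComplex.mk (Injective.ι (CGrpSh2.Gm Kf (Spec (CommRingCat.of R))))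
    (cokernel.π (Injective.ι (CGrpSh2.Gm Kf (Spec (CommRingCat.of R))))) (cokernel.condition _)
  have hS' : S'.ShortExact := { exact := ShortComplex.exact_cokernel _ }
  obtain ⟨σ₀, hσ₀⟩ := Abelian.Ext.covariant_sequence_exact₁ _ hS' e
    (Abelian.Ext.eq_zero_of_injective _) (rfl : 0 + 1 = 1)
  obtain ⟨σ, rfl⟩ := (Abelian.Ext.mk₀_bijective _ _).2 σ₀
  obtain ⟨τ, hτ⟩ := exists_hom_lift hS' hF σ
  rw [← hσ₀, ← hτ, ← Abelian.Ext.mk₀_comp_mk₀, Abelian.Ext.comp_assoc_of_second_deg_zero, hS'.comp_extClass,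
    Abelian.Ext.comp_zero]

end Groth.Agent.GaAlpha87
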