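import Groth.Agent.GaAlpha87.Coeff
import Groth.Prelude.Def_AlphaPn

/-!
# Cocycles of `α_{p^n}` with values in units split when Frobenius is surjective
-/

set_option autoImplicit false
set_option linter.unusedSectionVars false

universe u

open Groth.Agent.GaExt

namespace Groth.Agent.GaAlpha87

variable (R : Type u) [CommRing R] (q : ℕ)

/-- Truncated polynomial rings. -/
abbrev TR (σ : Type) : Type u := MvPolynomial σ R ⧸ box R σ q

/-- The coordinates. -/
noncomputable abbrev tx {σ : Type} (i : σ) : TR R q σ := Ideal.Quotient.mk _ (MvPolynomial.X i)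

theorem tx_pow {σ : Type} (i : σ) : tx R q i ^ q = 0 := by
  rw [← map_pow, Ideal.Quotient.eq_zero_iff_mem]
  exact X_pow_mem_box q i

/-- The ideal of the coordinates. -/
noncomputable abbrev MI (σ : Type) : Ideal (TR R q σ) :=
  (MvPolynomial.idealOfVars σ R).map (Ideal.Quotient.mk (box R σ q))

theorem tx_mem {σ : Type} (i : σ) : tx R q i ∈ MI R q σ :=
  Ideal.mem_map_of_mem _ (Ideal.subset_span ⟨i, rfl⟩)

variable {R q}

/-- Evaluation at a pair of elements killed by the `q`-th power. -/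
noncomputable def ev2 {D : Type u} [CommRing D] [Algebra R D] (a b : D) (ha : a ^ q = 0) (hb : b ^ q = 0) :
    TR R q (Fin 2) →ₐ[R] D :=
  Ideal.Quotient.liftₐ _ (MvPolynomial.aeval ![a, b]) (fun x hx => by
    refine (show box R (Fin 2) q ≤ RingHom.ker (MvPolynomial.aeval ![a, b] : MvPolynomial (Fin 2) R →ₐ[R] D).toRingHom
      from Ideal.span_le.2 ?_) hx
    rintro _ ⟨_, ⟨i, rfl⟩, rfl⟩
    show MvPolynomial.aeval ![a, b] (MvPolynomial.monomial (Finsupp.single i q) (1 : R)) = 0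
    rw [← MvPolynomial.X_pow_eq_monomial, map_pow, MvPolynomial.aeval_X]
    fin_cases i
    · exact ha
    · exact hb)

theorem ev2_mk {D : Type u} [CommRing D] [Algebra R D] (a b : D) (ha : a ^ q = 0) (hb : b ^ q = 0)
    (H : MvPolynomial (Fin 2) R) :
    ev2 a b ha hb (Ideal.Quotient.mk _ H) = MvPolynomial.aeval ![a, b] H := rfl

theorem ev2_ext {D : Type u} [CommRing D] [Algebra R D] {φ : TR R q (Fin 2) →ₐ[R] D} {a b : D} {ha : a ^ q = 0}
    {hb : b ^ q = 0} (h0 : φ (tx R q 0) = a) (h1 : φ (tx R q 1) = b) : φ = ev2 a b ha hb := by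
  refine Ideal.Quotient.algHom_ext R (MvPolynomial.algHom_ext fun i => ?_)
  show φ (tx R q i) = ev2 a b ha hb (tx R q i)
  rw [ev2_mk, MvPolynomial.aeval_X]
  fin_cases i
  · exact h0
  · exact h1

theorem ev2_mem {σ : Type} (a b : TR R q σ) (ha : a ^ q = 0) (hb : b ^ q = 0) (ha' : a ∈ MI R q σ) (hb' : b ∈ MI R q σ)
    {d : ℕ} {z : TR R q (Fin 2)} (hz : z ∈ MI R q (Fin 2) ^ d) : ev2 a b ha hb z ∈ MI R q σ ^ d := by
  have h : (MI R q (Fin 2)).map (ev2 a b ha hb).toRingHom ≤ MI R q σ := by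
    rw [Ideal.map_map, Ideal.map_le_iff_le_comap, MvPolynomial.idealOfVars, Ideal.span_le]
    rintro _ ⟨i, rfl⟩
    show ev2 a b ha hb (tx R q i) ∈ MI R q σ
    rw [ev2_mk, MvPolynomial.aeval_X]
    fin_cases i
    · exact ha'
    · exact hb'
  have h2 := Ideal.mem_map_of_mem (ev2 a b ha hb).toRingHom hz
  rw [Ideal.map_pow] at h2
  exact Ideal.pow_right_mono h d h2

/-- Symmetric normalised multiplicative cocycles in all algebras. -/
def Good (v : TR R q (Fin 2)) : Prop :=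
  ∀ (D : Type u) (_ : CommRing D) (_ : Algebra R D) (a b c : D) (ha : a ^ q = 0) (hb : b ^ q = 0) (hc : c ^ q = 0)
    (hab : (a + b) ^ q = 0) (hbc : (b + c) ^ q = 0),
    ev2 b a hb ha v = ev2 a b ha hb v ∧
      ev2 b c hb hc v * ev2 a (b + c) ha hbc v = ev2 (a + b) c hab hc v * ev2 a b ha hb v

theorem Good.mul {v v' : TR R q (Fin 2)} (h : Good v) (h' : Good v') : Good (v * v') :=
  fun D _ _ a b c ha hb hc hab hbc => by
    obtain ⟨h1, h2⟩ := h D ‹_› ‹_› a b c ha hb hc hab hbc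
    obtain ⟨h1', h2'⟩ := h' D ‹_› ‹_› a b c ha hb hc hab hbc
    simp only [map_mul]
    exact ⟨by rw [h1, h1'], by rw [mul_mul_mul_comm, h2, h2', mul_mul_mul_comm]⟩

theorem mul_mem_pow {A : Type*} [CommRing A] (I : Ideal A) {a b : A} {d e k : ℕ} (ha : a ∈ I ^ d) (hb : b ∈ I ^ e)
    (h : k ≤ d + e) : a * b ∈ I ^ k :=
  Ideal.pow_le_pow_right h (by rw [pow_add]; exact Ideal.mul_mem_mul ha hb)

theorem pow_mem_pow' {A : Type*} [CommRing A] (I : Ideal A) {a : A} {d e : ℕ} (ha : a ∈ I ^ d) : a ^ e ∈ I ^ (d * e) := by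
  rw [pow_mul]; exact Ideal.pow_mem_pow ha e

section prime

variable (R) (p : ℕ) [hp : Fact p.Prime] [CharP R p] (n : ℕ)

/-- Evaluation of functions on `α_{p^n}`. -/
noncomputable abbrev evA {D : Type u} [CommRing D] [Algebra R D] (a : D) (ha : a ^ (p ^ n) = 0) :
    AlphaPn.A p n R →ₐ[R] D := AlphaPn.lift p n R a ha

theorem hsum : (tx R (p ^ n) (0 : Fin 2) + tx R (p ^ n) 1) ^ (p ^ n) = 0 :=
  AlphaPn.add_pow_eq_zero p n R (Commute.all _ _) (tx_pow R _ 0) (tx_pow R _ 1)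

/-- The coboundary. -/
noncomputable def dltA (f : (AlphaPn.A p n R)ˣ) : TR R (p ^ n) (Fin 2) :=
  evA R p n (tx R (p ^ n) 0) (tx_pow R _ 0) (f : AlphaPn.A p n R) *
    evA R p n (tx R (p ^ n) 1) (tx_pow R _ 1) (f : AlphaPn.A p n R) *
    evA R p n (tx R (p ^ n) (0 : Fin 2) + tx R (p ^ n) 1) (hsum R p n) ((f⁻¹ : (AlphaPn.A p n R)ˣ) : AlphaPn.A p n R)

theorem dltA_one : dltA R p n 1 = 1 := by simp [dltA]

theorem dltA_mul (f f' : (AlphaPn.A p n R)ˣ) : dltA R p n (f * f') = dltA R p n f * dltA R p n f' := by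
  simp only [dltA, mul_inv, Units.val_mul, map_mul]
  ring

theorem ev2_dltA (f : (AlphaPn.A p n R)ˣ) {D : Type u} [CommRing D] [Algebra R D] (a b : D) (ha : a ^ (p ^ n) = 0)
    (hb : b ^ (p ^ n) = 0) (hab : (a + b) ^ (p ^ n) = 0) :
    ev2 a b ha hb (dltA R p n f) = evA R p n a ha (f : AlphaPn.A p n R) * evA R p n b hb (f : AlphaPn.A p n R) *
      evA R p n (a + b) hab ((f⁻¹ : (AlphaPn.A p n R)ˣ) : AlphaPn.A p n R) := by
  have e : ∀ (z : TR R (p ^ n) (Fin 2)) (hz : z ^ (p ^ n) = 0) (c : D) (hc : c ^ (p ^ n) = 0),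
      ev2 a b ha hb z = c → (ev2 a b ha hb).comp (evA R p n z hz) = evA R p n c hc := fun z hz c hc h =>
    AlphaPn.algHom_ext (by rw [AlgHom.comp_apply, AlphaPn.lift_x, AlphaPn.lift_x, h])
  simp only [dltA, map_mul, ← AlgHom.comp_apply]
  rw [e _ _ a ha (by rw [ev2_mk, MvPolynomial.aeval_X]; rfl), e _ _ b hb (by rw [ev2_mk, MvPolynomial.aeval_X]; rfl),
    e _ _ (a + b) hab (by rw [map_add, ev2_mk, ev2_mk, MvPolynomial.aeval_X, MvPolynomial.aeval_X]; rfl)]

theorem good_dltA (f : (AlphaPn.A p n R)ˣ) : Good (dltA R p n f) := by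
  intro D _ _ a b c ha hb hc hab hbc
  have habc : (a + (b + c)) ^ (p ^ n) = 0 := AlphaPn.add_pow_eq_zero p n R (Commute.all _ _) ha hbc
  have habc' : (a + b + c) ^ (p ^ n) = 0 := AlphaPn.add_pow_eq_zero p n R (Commute.all _ _) hab hc
  have hba : (b + a) ^ (p ^ n) = 0 := AlphaPn.add_pow_eq_zero p n R (Commute.all _ _) hb ha
  have one : ∀ (z : D) (hz : z ^ (p ^ n) = 0),
      evA R p n z hz (f : AlphaPn.A p n R) * evA R p n z hz ((f⁻¹ : (AlphaPn.A p n R)ˣ) : AlphaPn.A p n R) = 1 :=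
    fun z hz => by rw [← map_mul, Units.mul_inv, map_one]
  rw [ev2_dltA R p n f b a hb ha hba, ev2_dltA R p n f a b ha hb hab, ev2_dltA R p n f b c hb hc hbc,
    ev2_dltA R p n f a (b + c) ha hbc habc, ev2_dltA R p n f (a + b) c hab hc habc']
  refine ⟨?_, ?_⟩
  · simp only [add_comm b a]
    ring
  · simp only [add_assoc a b c]
    have e1 := one _ hab
    have e2 := one _ hbc
    linear_combination (evA R p n a ha (f : AlphaPn.A p n R) * evA R p n b hb (f : AlphaPn.A p n R) *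
      evA R p n c hc (f : AlphaPn.A p n R) *
      evA R p n (a + (b + c)) habc ((f⁻¹ : (AlphaPn.A p n R)ˣ) : AlphaPn.A p n R)) * (e2 - e1)

/-- `f` has coboundary `1 + a` to first order in degree `d`. -/
def LinA (d : ℕ) (f : (AlphaPn.A p n R)ˣ) (a : TR R (p ^ n) (Fin 2)) : Prop :=
  evA R p n (tx R (p ^ n) (0 : Fin 2)) (tx_pow R _ 0) (f : AlphaPn.A p n R) *
      evA R p n (tx R (p ^ n) (1 : Fin 2)) (tx_pow R _ 1) (f : AlphaPn.A p n R) -
    evA R p n (tx R (p ^ n) (0 : Fin 2) + tx R (p ^ n) 1) (hsum R p n) (f : AlphaPn.A p n R) * (1 + a) ∈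
    MI R (p ^ n) (Fin 2) ^ (d + 1)

variable {R p n}

theorem LinA.one {d : ℕ} : LinA R p n d 1 0 := by simp [LinA]

theorem LinA.mul {d : ℕ} (hd : 1 ≤ d) {f f' : (AlphaPn.A p n R)ˣ} {a b : TR R (p ^ n) (Fin 2)}
    (ha : a ∈ MI R (p ^ n) (Fin 2) ^ d) (hb : b ∈ MI R (p ^ n) (Fin 2) ^ d)
    (h : LinA R p n d f a) (h' : LinA R p n d f' b) : LinA R p n d (f * f') (a + b) := by
  have hab : a * b ∈ MI R (p ^ n) (Fin 2) ^ (d + 1) := mul_mem_pow _ ha hb (by omega)
  unfold LinA at h h' ⊢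
  simp only [Units.val_mul, map_mul]
  set S := evA R p n (tx R (p ^ n) (0 : Fin 2) + tx R (p ^ n) 1) (hsum R p n)
  set P := evA R p n (tx R (p ^ n) (0 : Fin 2)) (tx_pow R _ 0)
  set P' := evA R p n (tx R (p ^ n) (1 : Fin 2)) (tx_pow R _ 1)
  have := add_mem (add_mem (Ideal.mul_mem_right (P (f' : AlphaPn.A p n R) * P' (f' : AlphaPn.A p n R)) _ h)
    (Ideal.mul_mem_left _ (S (f : AlphaPn.A p n R) * (1 + a)) h'))
    (Ideal.mul_mem_left _ (S (f : AlphaPn.A p n R) * S (f' : AlphaPn.A p n R)) hab)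
  convert this using 1
  ring

theorem LinA.dltA_sub {d : ℕ} {f : (AlphaPn.A p n R)ˣ} {a : TR R (p ^ n) (Fin 2)} (h : LinA R p n d f a) :
    dltA R p n f - (1 + a) ∈ MI R (p ^ n) (Fin 2) ^ (d + 1) := by
  unfold LinA at h
  have e : evA R p n (tx R (p ^ n) (0 : Fin 2) + tx R (p ^ n) 1) (hsum R p n) (f : AlphaPn.A p n R) *
      evA R p n (tx R (p ^ n) (0 : Fin 2) + tx R (p ^ n) 1) (hsum R p n) ((f⁻¹ : (AlphaPn.A p n R)ˣ) : AlphaPn.A p n R) = 1 := by
    rw [← map_mul, Units.mul_inv, map_one]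
  have := Ideal.mul_mem_right
    (evA R p n (tx R (p ^ n) (0 : Fin 2) + tx R (p ^ n) 1) (hsum R p n) ((f⁻¹ : (AlphaPn.A p n R)ˣ) : AlphaPn.A p n R)) _ h
  convert this using 1
  rw [dltA]
  linear_combination (1 + a) * e

theorem isNilpotent_x : IsNilpotent (AlphaPn.x p n R) := ⟨p ^ n, AlphaPn.x_pow p n R⟩

theorem linA_coboundary {d : ℕ} (hd : 1 ≤ d) (g : R) :
    ∃ f, LinA R p n d f (-(algebraMap R _ g * (tx R (p ^ n) (0 : Fin 2) ^ d + tx R (p ^ n) 1 ^ d -
      (tx R (p ^ n) (0 : Fin 2) + tx R (p ^ n) 1) ^ d))) := by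
  have hn : IsNilpotent (algebraMap R (AlphaPn.A p n R) g * AlphaPn.x p n R ^ d) :=
    (Commute.all _ _).isNilpotent_mul_left (isNilpotent_x.pow_of_pos (by omega))
  refine ⟨(IsNilpotent.isUnit_one_sub hn).unit, ?_⟩
  have hu : ∀ (z : TR R (p ^ n) (Fin 2)) (hz : z ^ (p ^ n) = 0),
      evA R p n z hz ((IsNilpotent.isUnit_one_sub hn).unit : AlphaPn.A p n R) = 1 - algebraMap R _ g * z ^ d := by
    intro z hz
    rw [IsUnit.unit_spec, map_sub, map_one, map_mul, map_pow, AlgHom.commutes, AlphaPn.lift_x]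
  unfold LinA
  rw [hu, hu, hu]
  set A := tx R (p ^ n) (0 : Fin 2) ^ d with hA
  set B := tx R (p ^ n) (1 : Fin 2) ^ d with hB
  set S := (tx R (p ^ n) (0 : Fin 2) + tx R (p ^ n) 1) ^ d with hS
  have mA : A ∈ MI R (p ^ n) (Fin 2) ^ d := Ideal.pow_mem_pow (tx_mem R _ 0) d
  have mB : B ∈ MI R (p ^ n) (Fin 2) ^ d := Ideal.pow_mem_pow (tx_mem R _ 1) d
  have mS : S ∈ MI R (p ^ n) (Fin 2) ^ d := Ideal.pow_mem_pow (add_mem (tx_mem R _ 0) (tx_mem R _ 1)) d
  have h1 : A * B - S * (A + B - S) ∈ MI R (p ^ n) (Fin 2) ^ (d + 1) :=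
    sub_mem (mul_mem_pow _ mA mB (by omega)) (mul_mem_pow _ mS (sub_mem (add_mem mA mB) mS) (by omega))
  have := Ideal.mul_mem_left _ (algebraMap R (TR R (p ^ n) (Fin 2)) g ^ 2) h1
  convert this using 1
  ring

include hp in
theorem wfun_mul_mul {A : Type*} [CommRing A] (e u v : A) : wfun p (e * u) (e * v) = e ^ p * wfun p u v := by
  simp only [wfun, mul_neg, Finset.mul_sum]
  congr 1
  refine Finset.sum_congr rfl fun i hi => ?_
  rw [Finset.mem_Ico] at hi
  have : e ^ p = e ^ i * e ^ (p - i) := by rw [← pow_add, Nat.add_sub_cancel' hi.2.le]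
  rw [this]
  ring

theorem linA_witt {d s : ℕ} (hs : p ^ (s + 1) = d) (hF : Function.Surjective (frobenius R p)) (c : R) :
    ∃ f, LinA R p n d f (-(algebraMap R _ c *
      wfun p (tx R (p ^ n) (0 : Fin 2) ^ p ^ s) (tx R (p ^ n) 1 ^ p ^ s))) := by
  obtain ⟨e, he⟩ := hF (-c)
  rw [frobenius_def] at he
  let φ : ℤ_[p] →+* AlphaPn.A p n R := (algebraMap R _).comp (padicTo p R)
  set t := algebraMap R (AlphaPn.A p n R) e * AlphaPn.x p n R ^ p ^ s with ht
  have htn : IsNilpotent t := (Commute.all _ _).isNilpotent_mul_left (isNilpotent_x.pow_of_pos (pow_ne_zero _ hp.out.ne_zero))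
  have hu : IsUnit (ah p φ t) := by
    have h1 : ah p φ t - 1 ∈ Ideal.span {t} := by
      rw [← Ideal.Quotient.mk_eq_mk_iff_sub_mem, map_one, map_ah,
        Ideal.Quotient.eq_zero_iff_mem.mpr (Ideal.mem_span_singleton_self t), ah_zero]
    obtain ⟨w, hw⟩ := Ideal.mem_span_singleton'.mp h1
    rw [show ah p φ t = 1 + w * t by rw [hw]; ring]
    exact ((Commute.all _ _).isNilpotent_mul_left htn).isUnit_one_add
  refine ⟨hu.unit, ?_⟩
  let ψ : ℤ_[p] →+* TR R (p ^ n) (Fin 2) := (algebraMap R _).comp (padicTo p R)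
  set E := algebraMap R (TR R (p ^ n) (Fin 2)) e with hE
  have hev : ∀ (z : TR R (p ^ n) (Fin 2)) (hz : z ^ (p ^ n) = 0),
      evA R p n z hz (hu.unit : AlphaPn.A p n R) = ah p ψ (E * z ^ p ^ s) := by
    intro z hz
    rw [IsUnit.unit_spec]
    refine (map_ah p φ (evA R p n z hz).toRingHom _).trans ?_
    congr 1
    · ext r; exact (evA R p n z hz).commutes _
    · show evA R p n z hz t = _
      rw [ht, map_mul, map_pow, AlgHom.commutes, AlphaPn.lift_x]
  unfold LinA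
  rw [hev, hev, hev, AlphaPn.add_pow_prime_pow p s R (Commute.all _ _)]
  set x' := tx R (p ^ n) (0 : Fin 2) ^ p ^ s
  set y' := tx R (p ^ n) (1 : Fin 2) ^ p ^ s
  let f : MvPolynomial (Fin 2) ℤ_[p] →+* TR R (p ^ n) (Fin 2) := MvPolynomial.eval₂Hom ψ ![E * x', E * y']
  have h := Ideal.mem_map_of_mem f (ah_mul_universal p)
  rw [Ideal.map_pow] at h
  have hle : (MvPolynomial.idealOfVars (Fin 2) ℤ_[p]).map f ≤ MI R (p ^ n) (Fin 2) ^ (p ^ s) := by
    rw [MvPolynomial.idealOfVars, Ideal.map_span, Ideal.span_le]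
    rintro _ ⟨_, ⟨i, rfl⟩, rfl⟩
    show f (MvPolynomial.X i) ∈ _
    rw [MvPolynomial.eval₂Hom_X']
    fin_cases i
    · exact Ideal.mul_mem_left _ _ (Ideal.pow_mem_pow (tx_mem R _ 0) _)
    · exact Ideal.mul_mem_left _ _ (Ideal.pow_mem_pow (tx_mem R _ 1) _)
  have hle' : d + 1 ≤ p ^ s * (2 * p) := by
    have : 0 < p ^ (s + 1) := pow_pos hp.out.pos _
    rw [← hs, pow_succ] at *
    nlinarith
  have h'' := Ideal.pow_le_pow_right hle' (show _ ∈ MI R (p ^ n) (Fin 2) ^ (p ^ s * (2 * p)) from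
    (pow_mul (MI R (p ^ n) (Fin 2)) (p ^ s) (2 * p)).ge (Ideal.pow_right_mono hle (2 * p) h))
  have hf : f.comp MvPolynomial.C = ψ := by ext r; simp [f]
  rw [map_sub, map_mul, map_mul, map_add, map_one, map_ah, map_ah, map_ah, map_wfun, map_add, hf] at h''
  simp only [f, MvPolynomial.eval₂Hom_X', Matrix.cons_val_zero, Matrix.cons_val_one] at h''
  rw [wfun_mul_mul, ← mul_add, hE, ← map_pow, he, map_neg] at h''
  convert h'' using 1
  ring

theorem mk_C (r : R) {σ : Type} : Ideal.Quotient.mk (box R σ (p ^ n)) (MvPolynomial.C r) = algebraMap R _ r := rfl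

theorem homogeneousComponent_eval₂ {u : MvPolynomial (Fin 2) R} (hu : u.IsHomogeneous 1) (d : ℕ) (G : Polynomial R) :
    MvPolynomial.homogeneousComponent d (G.eval₂ MvPolynomial.C u) = MvPolynomial.C (G.coeff d) * u ^ d := by
  classical
  induction G using Polynomial.induction_on' with
  | add a b ha hb => rw [Polynomial.eval₂_add, map_add, ha, hb, Polynomial.coeff_add, map_add, add_mul]
  | monomial k c =>
    have hk : (MvPolynomial.C c * u ^ k).IsHomogeneous k := by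
      have h1 : (u ^ k).IsHomogeneous (1 * k) := hu.pow k
      rw [_root_.one_mul] at h1
      exact h1.C_mul c
    rw [Polynomial.eval₂_monomial, MvPolynomial.homogeneousComponent_of_mem hk, Polynomial.coeff_monomial]
    by_cases hkd : k = d
    · subst hkd; simp
    · simp [hkd, Ne.symm hkd]

theorem isHomogeneous_wfun (s : ℕ) :
    (wfun p (MvPolynomial.X 0 ^ p ^ s) (MvPolynomial.X 1 ^ p ^ s) : MvPolynomial (Fin 2) R).IsHomogeneous (p ^ (s + 1)) := by
  refine (MvPolynomial.IsHomogeneous.sum _ _ _ fun i hi => ?_).neg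
  rw [Finset.mem_Ico] at hi
  have h := ((((MvPolynomial.isHomogeneous_X R (0 : Fin 2)).pow (p ^ s)).pow i).mul
    (((MvPolynomial.isHomogeneous_X R (1 : Fin 2)).pow (p ^ s)).pow (p - i))).C_mul ((p.choose i / p : ℕ) : R)
  rw [map_natCast] at h
  rw [mul_assoc]
  convert h using 1
  rw [← Nat.mul_add, Nat.add_sub_cancel' hi.2.le]
  ring

theorem exists_step {d : ℕ} (hd : 1 ≤ d) (hF : Function.Surjective (frobenius R p)) {w : TR R (p ^ n) (Fin 2)}
    (hw : Good w) (hw1 : w - 1 ∈ MI R (p ^ n) (Fin 2) ^ d) :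
    ∃ f, w * dltA R p n f - 1 ∈ MI R (p ^ n) (Fin 2) ^ (d + 1) := by
  classical
  have hw1' := hw1
  rw [← Ideal.map_pow, Ideal.mem_map_iff_of_surjective _ Ideal.Quotient.mk_surjective] at hw1'
  obtain ⟨g, hg, hgw⟩ := hw1'
  set P : (Fin 2 →₀ ℕ) → Prop := fun m => m.degree = d ∧ ∀ i, m i < p ^ n
  set h : MvPolynomial (Fin 2) R := ∑ m ∈ g.support.filter P, MvPolynomial.monomial m (g.coeff m) with hh
  have hcoeff : ∀ m, h.coeff m = if P m then g.coeff m else 0 := fun m => by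
    rw [hh, MvPolynomial.coeff_sum]
    simp only [MvPolynomial.coeff_monomial, Finset.sum_ite_eq', Finset.mem_filter, MvPolynomial.mem_support_iff]
    by_cases hm : g.coeff m = 0 <;> simp [hm]
  have hrest : g - h ∈ MvPolynomial.idealOfVars (Fin 2) R ^ (d + 1) ⊔ box R (Fin 2) (p ^ n) := by
    have e : g - h = ∑ m ∈ g.support.filter (fun m => ¬ P m), MvPolynomial.monomial m (g.coeff m) := by
      rw [sub_eq_iff_eq_add, hh, add_comm, Finset.sum_filter_add_sum_filter_not, ← g.as_sum]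
    rw [e]
    refine Ideal.sum_mem _ fun m hm => ?_
    rw [Finset.mem_filter] at hm
    have hdeg : d ≤ m.degree := (MvPolynomial.mem_pow_idealOfVars_iff d g).1 hg m hm.1
    by_cases hmd : m.degree = d
    · refine Submodule.mem_sup_right (mem_box.2 fun m' hm' => ?_)
      rw [Finset.mem_singleton.1 (MvPolynomial.support_monomial_subset hm')]
      by_contra hne
      push Not at hne
      exact hm.2 ⟨hmd, hne⟩
    · refine Submodule.mem_sup_left ((MvPolynomial.mem_pow_idealOfVars_iff _ _).2 fun m' hm' => ?_)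
      rw [Finset.mem_singleton.1 (MvPolynomial.support_monomial_subset hm')]
      omega
  have hr : w - 1 - Ideal.Quotient.mk _ h ∈ MI R (p ^ n) (Fin 2) ^ (d + 1) := by
    rw [← hgw, ← map_sub, ← Ideal.map_pow, Ideal.mem_quotient_iff_mem_sup]
    exact hrest
  have hev : ∀ {σ : Type} (a b : TR R (p ^ n) σ) (ha : a ^ (p ^ n) = 0) (hb : b ^ (p ^ n) = 0),
      a ∈ MI R _ σ → b ∈ MI R _ σ → ev2 a b ha hb (w - 1) ∈ MI R (p ^ n) σ ^ d ∧
        ev2 a b ha hb (w - 1) - MvPolynomial.aeval ![a, b] h ∈ MI R (p ^ n) σ ^ (d + 1) := fun a b ha hb ha' hb' =>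
    ⟨ev2_mem a b ha hb ha' hb' hw1, by rw [← ev2_mk a b ha hb, ← map_sub]; exact ev2_mem a b ha hb ha' hb' hr⟩
  let aev : ∀ {σ : Type} (A B : MvPolynomial σ R), MvPolynomial.aeval
      ![Ideal.Quotient.mk (box R σ (p ^ n)) A, Ideal.Quotient.mk (box R σ (p ^ n)) B] h =
        Ideal.Quotient.mk _ (MvPolynomial.aeval ![A, B] h) := fun {σ} A B => by
    rw [← Ideal.Quotient.mkₐ_eq_mk R, ← AlgHom.comp_apply, MvPolynomial.comp_aeval]
    congr 1
    refine MvPolynomial.algHom_ext fun i => ?_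
    fin_cases i <;> simp
  -- symmetry
  have hsym : ∀ i j, h.coeff (m2 i j) = h.coeff (m2 j i) := by
    intro i j
    by_cases hP : P (m2 i j)
    · obtain ⟨h1, -⟩ := hw (TR R (p ^ n) (Fin 2)) inferInstance inferInstance (tx R _ (0 : Fin 2)) (tx R _ (1 : Fin 2)) (tx R _ (0 : Fin 2))
        (tx_pow R _ _) (tx_pow R _ _) (tx_pow R _ _) (hsum R p n) (by rw [add_comm]; exact hsum R p n)
      obtain ⟨-, r1⟩ := hev (tx R _ (1 : Fin 2)) (tx R _ (0 : Fin 2)) (tx_pow R _ _) (tx_pow R _ _) (tx_mem R _ _) (tx_mem R _ _)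
      obtain ⟨-, r0⟩ := hev (tx R _ (0 : Fin 2)) (tx R _ (1 : Fin 2)) (tx_pow R _ _) (tx_pow R _ _) (tx_mem R _ _) (tx_mem R _ _)
      have h2 : MvPolynomial.aeval ![tx R (p ^ n) (1 : Fin 2), tx R (p ^ n) 0] h -
          MvPolynomial.aeval ![tx R (p ^ n) (0 : Fin 2), tx R (p ^ n) 1] h ∈ MI R (p ^ n) (Fin 2) ^ (d + 1) := by
        convert sub_mem r0 r1 using 1
        simp only [map_sub, map_one]
        linear_combination h1
      rw [aev, aev, ← map_sub,
        show (![MvPolynomial.X 0, MvPolynomial.X 1] : Fin 2 → MvPolynomial (Fin 2) R) = MvPolynomial.X from by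
          funext k; fin_cases k <;> rfl, MvPolynomial.aeval_X_left_apply, ← Ideal.map_pow,
        Ideal.mem_quotient_iff_mem_sup] at h2
      have h3 := coeff_eq_zero_of_mem h2 hP.1.le hP.2
      rw [MvPolynomial.coeff_sub, coeff_swap, sub_eq_zero] at h3
      exact h3.symm
    · have hP' : ¬ P (m2 j i) := fun hP' => hP ⟨by rw [degree_m2, add_comm, ← degree_m2]; exact hP'.1, fun k => by
        fin_cases k
        · exact hP'.2 1
        · exact hP'.2 0⟩
      rw [hcoeff, hcoeff, if_neg hP, if_neg hP']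
  have hcy : ∀ a b c, a + b + c = d → a < p ^ n → b < p ^ n → c < p ^ n → (cy h).coeff (m3 a b c) = 0 := by
    intro a b c habc ha hb hc
    let x : Fin 3 → TR R (p ^ n) (Fin 3) := fun i => tx R (p ^ n) i
    have xs : ∀ i j, (x i + x j) ^ (p ^ n) = 0 := fun i j =>
      AlphaPn.add_pow_eq_zero p n R (Commute.all _ _) (tx_pow R _ i) (tx_pow R _ j)
    obtain ⟨-, h2⟩ := hw (TR R (p ^ n) (Fin 3)) inferInstance inferInstance (x 0) (x 1) (x 2)
      (tx_pow R _ 0) (tx_pow R _ 1) (tx_pow R _ 2) (xs 0 1) (xs 1 2)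
    obtain ⟨m1, r1⟩ := hev (x 0) (x 1) (tx_pow R _ 0) (tx_pow R _ 1) (tx_mem R _ 0) (tx_mem R _ 1)
    obtain ⟨m2', r2⟩ := hev (x 0 + x 1) (x 2) (xs 0 1) (tx_pow R _ 2) (add_mem (tx_mem R _ 0) (tx_mem R _ 1)) (tx_mem R _ 2)
    obtain ⟨m3', r3⟩ := hev (x 0) (x 1 + x 2) (tx_pow R _ 0) (xs 1 2) (tx_mem R _ 0) (add_mem (tx_mem R _ 1) (tx_mem R _ 2))
    obtain ⟨m4, r4⟩ := hev (x 1) (x 2) (tx_pow R _ 1) (tx_pow R _ 2) (tx_mem R _ 1) (tx_mem R _ 2)
    have hprod' := sub_mem (mul_mem_pow _ m4 m3' (show d + 1 ≤ d + d by omega))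
      (mul_mem_pow _ m2' m1 (show d + 1 ≤ d + d by omega))
    have h3 := sub_mem hprod' (sub_mem (add_mem r1 r2) (add_mem r3 r4))
    have h4 : MvPolynomial.aeval ![x 0, x 1] h + MvPolynomial.aeval ![x 0 + x 1, x 2] h -
        (MvPolynomial.aeval ![x 0, x 1 + x 2] h + MvPolynomial.aeval ![x 1, x 2] h) ∈
        MI R (p ^ n) (Fin 3) ^ (d + 1) := by
      convert h3 using 1
      simp only [map_sub, map_one]
      linear_combination -h2
    simp only [x, ← map_add, aev, ← map_sub] at h4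
    rw [← Ideal.map_pow, Ideal.mem_quotient_iff_mem_sup] at h4
    exact coeff_eq_zero_of_mem h4 (by rw [degree_m3]; omega) (fun i => by fin_cases i <;> assumption)
  have hsupp : ∀ i j, h.coeff (m2 i j) ≠ 0 → i + j = d ∧ i < p ^ n ∧ j < p ^ n := by
    intro i j hne
    rw [hcoeff] at hne
    split_ifs at hne with hP
    · exact ⟨(degree_m2 i j).symm.trans hP.1, hP.2 0, hP.2 1⟩
    · exact absurd rfl hne
  rcases Nat.lt_or_ge (p ^ n) d with hdq | hdq
  · refine ⟨1, ?_⟩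
    rw [dltA_one, mul_one]
    have h0 := component_vanish h p hdq hsupp hsym hcy
    rwa [h0, map_zero, sub_zero] at hr
  have hcy0 : cy h = 0 := component h hd hdq hsupp hcy
  have hsw : MvPolynomial.aeval ![(MvPolynomial.X 1 : MvPolynomial (Fin 2) R), MvPolynomial.X 0] h = h := by
    refine MvPolynomial.ext _ _ fun m => ?_
    rw [m2_eta m, coeff_swap, hsym]
  obtain ⟨G, K, c, -, -, hdec⟩ := exists_decomposition_mod p (⊤ : Ideal R) ⊥ h (by rw [Ideal.map_top]; trivial)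
    (by rw [hsw, sub_self]; exact Ideal.zero_mem _) (by
      show cy h ∈ _
      rw [hcy0]
      exact Ideal.zero_mem _)
  rw [Ideal.map_bot, Ideal.mem_bot, sub_eq_zero] at hdec
  have hhom : h.IsHomogeneous d := by
    intro m hm
    rw [hcoeff] at hm
    split_ifs at hm with hP
    · rw [← hP.1, Finsupp.degree_eq_weight_one]
      rfl
    · exact absurd rfl hm
  have hdec' := congrArg (MvPolynomial.homogeneousComponent d) hdec
  rw [MvPolynomial.homogeneousComponent_of_mem hhom, if_pos rfl, map_add, map_sum] at hdec'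
  have hW : ∀ s, MvPolynomial.homogeneousComponent d (MvPolynomial.C (c s) *
      wfun p (MvPolynomial.X 0 ^ p ^ s) (MvPolynomial.X 1 ^ p ^ s) : MvPolynomial (Fin 2) R) =
      if p ^ (s + 1) = d then MvPolynomial.C (c s) * wfun p (MvPolynomial.X 0 ^ p ^ s) (MvPolynomial.X 1 ^ p ^ s) else 0 :=
    fun s => by
      rw [MvPolynomial.homogeneousComponent_of_mem ((isHomogeneous_wfun s).C_mul (c s))]
      simp only [eq_comm]
  simp only [hW, delta, map_sub, map_add,
    homogeneousComponent_eval₂ (MvPolynomial.isHomogeneous_X R (0 : Fin 2)),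
    homogeneousComponent_eval₂ (MvPolynomial.isHomogeneous_X R (1 : Fin 2)),
    homogeneousComponent_eval₂ ((MvPolynomial.isHomogeneous_X R (0 : Fin 2)).add
      (MvPolynomial.isHomogeneous_X R (1 : Fin 2)))] at hdec'
  set g0 := G.coeff d
  let W : ℕ → TR R (p ^ n) (Fin 2) := fun s => if p ^ (s + 1) = d then
    -(algebraMap R _ (c s) * wfun p (tx R (p ^ n) (0 : Fin 2) ^ p ^ s) (tx R (p ^ n) 1 ^ p ^ s)) else 0
  set Z : TR R (p ^ n) (Fin 2) := -(algebraMap R _ g0 * (tx R (p ^ n) (0 : Fin 2) ^ d + tx R (p ^ n) 1 ^ d -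
    (tx R (p ^ n) (0 : Fin 2) + tx R (p ^ n) 1) ^ d)) with hZ
  have hZm : Z ∈ MI R (p ^ n) (Fin 2) ^ d := neg_mem (Ideal.mul_mem_left _ _
    (sub_mem (add_mem (Ideal.pow_mem_pow (tx_mem R _ 0) d) (Ideal.pow_mem_pow (tx_mem R _ 1) d))
      (Ideal.pow_mem_pow (add_mem (tx_mem R _ 0) (tx_mem R _ 1)) d)))
  have hWm : ∀ s, W s ∈ MI R (p ^ n) (Fin 2) ^ d := fun s => by
    simp only [W]
    split_ifs with hs
    · refine neg_mem (Ideal.mul_mem_left _ _ (neg_mem (Ideal.sum_mem _ fun i hi => ?_)))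
      rw [Finset.mem_Ico] at hi
      rw [mul_assoc]
      exact Ideal.mul_mem_left _ _ (mul_mem_pow _
        (pow_mem_pow' _ (Ideal.pow_mem_pow (tx_mem R (p ^ n) (0 : Fin 2)) (p ^ s)))
        (pow_mem_pow' _ (Ideal.pow_mem_pow (tx_mem R (p ^ n) (1 : Fin 2)) (p ^ s)))
        (by rw [← Nat.mul_add, Nat.add_sub_cancel' hi.2.le, ← hs, pow_succ]))
    · exact zero_mem _
  have hfs : ∀ s, ∃ f, LinA R p n d f (W s) := fun s => by
    simp only [W]
    split_ifs with hs
    · exact linA_witt hs hF (c s)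
    · exact ⟨1, LinA.one⟩
  choose fs hfs using hfs
  obtain ⟨f0, hf0⟩ := linA_coboundary (R := R) (p := p) (n := n) hd g0
  have hprod : ∀ m, LinA R p n d (∏ s ∈ Finset.range m, fs s) (∑ s ∈ Finset.range m, W s) := by
    intro m
    induction m with
    | zero => simp only [Finset.range_zero, Finset.prod_empty, Finset.sum_empty]; exact LinA.one
    | succ m ih =>
      rw [Finset.prod_range_succ, Finset.sum_range_succ]
      exact LinA.mul hd (Ideal.sum_mem _ fun s _ => hWm s) (hWm m) ih (hfs m)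
  have hsumm : ∑ s ∈ Finset.range K, W s ∈ MI R (p ^ n) (Fin 2) ^ d := Ideal.sum_mem _ fun s _ => hWm s
  have hall := (LinA.mul hd hZm hsumm hf0 (hprod K)).dltA_sub
  have hneg : Z + ∑ s ∈ Finset.range K, W s = -Ideal.Quotient.mk _ h := by
    rw [hdec', map_add, map_sum, neg_add, ← Finset.sum_neg_distrib]
    refine congrArg₂ (· + ·) ?_ (Finset.sum_congr rfl fun s _ => ?_)
    · simp only [hZ, map_sub, map_add, map_mul, map_pow, mk_C]
      ring
    · simp only [W]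
      split_ifs
      · simp [map_mul, map_wfun, map_pow, mk_C]
      · simp
  refine ⟨f0 * ∏ s ∈ Finset.range K, fs s, ?_⟩
  rw [hneg] at hall
  have hZW : Ideal.Quotient.mk _ h ∈ MI R (p ^ n) (Fin 2) ^ d := by
    rw [← neg_mem_iff, ← hneg]; exact add_mem hZm hsumm
  have := sub_mem (add_mem (Ideal.mul_mem_left _ w hall) hr)
    (mul_mem_pow _ hw1 hZW (show d + 1 ≤ d + d by omega))
  convert this using 1
  ring

/-- Cocycles split. -/
theorem exists_splitting (hF : Function.Surjective (frobenius R p)) {v : TR R (p ^ n) (Fin 2)} (hv : Good v)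
    (h0 : ev2 (0 : R) 0 (zero_pow (pow_ne_zero n hp.out.ne_zero)) (zero_pow (pow_ne_zero n hp.out.ne_zero)) v = 1) :
    ∃ f : (AlphaPn.A p n R)ˣ, v * dltA R p n f = 1 := by
  have hit : ∀ d : ℕ, ∃ f, v * dltA R p n f - 1 ∈ MI R (p ^ n) (Fin 2) ^ (d + 1) := by
    intro d
    induction d with
    | zero =>
      refine ⟨1, ?_⟩
      obtain ⟨H, rfl⟩ := Ideal.Quotient.mk_surjective v
      rw [dltA_one, mul_one, ← map_one (Ideal.Quotient.mk (box R (Fin 2) (p ^ n))), ← map_sub, ← Ideal.map_pow]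
      refine Ideal.mem_map_of_mem _ ((MvPolynomial.mem_pow_idealOfVars_iff' _ _).2 fun m hm => ?_)
      obtain rfl : m = 0 := by rwa [Nat.lt_one_iff, Finsupp.degree_eq_zero_iff] at hm
      rw [ev2_mk, show (![(0 : R), 0]) = fun _ => (0 : R) from by funext i; fin_cases i <;> rfl] at h0
      rw [MvPolynomial.coeff_sub, MvPolynomial.coeff_zero_one, sub_eq_zero, ← MvPolynomial.constantCoeff_eq]
      simpa using h0
    | succ d ih =>
      obtain ⟨f, hf⟩ := ih
      obtain ⟨f', hf'⟩ := exists_step (by omega) hF (hv.mul (good_dltA R p n f)) hf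
      exact ⟨f * f', by rwa [dltA_mul, ← mul_assoc]⟩
  obtain ⟨f, hf⟩ := hit (2 * p ^ n)
  refine ⟨f, sub_eq_zero.1 ?_⟩
  rw [← Ideal.map_pow, Ideal.mem_map_iff_of_surjective _ Ideal.Quotient.mk_surjective] at hf
  obtain ⟨g, hg, hge⟩ := hf
  rw [← hge, Ideal.Quotient.eq_zero_iff_mem]
  refine mem_box.2 fun m hm => ?_
  have := (MvPolynomial.mem_pow_idealOfVars_iff _ g).1 hg m hm
  by_contra hne
  push Not at hne
  rw [m2_eta m, degree_m2] at this
  have := hne 0
  have := hne 1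
  omega

end prime

end Groth.Agent.GaAlpha87
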